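import Groth.Agent.Rig93.Global

/-!
Morphisms out of a scheme `X` with `ξ_* 𝒪_X = 𝒪_S` which collapse fibres factor through `S`.
-/

set_option autoImplicit false

universe u

set_option backward.isDefEq.respectTransparency false

open CategoryTheory CategoryTheory.Limits AlgebraicGeometry TopologicalSpace Opposite

namespace Groth.Agent.Rig93

/-- A surjective morphism injective on functions is an epimorphism. -/
lemma eq_of_surjective_of_injective {X' S' Y : Scheme.{u}} (π : X' ⟶ S') [Surjective π]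
    (hinj : ∀ U : S'.Opens, Function.Injective (π.app U)) (a b : S' ⟶ Y) (h : π ≫ a = π ≫ b) : a = b := by
  have hpt : ∀ z, a z = b z := by
    intro z
    obtain ⟨x, rfl⟩ := π.surjective z
    exact congr($(h) x)
  refine eq_of_forall_exists_opens a b fun z => ?_
  obtain ⟨_, ⟨(W : Y.Opens), hW, rfl⟩, hzW, -⟩ :=
    Y.isBasis_affineOpens.exists_subset_of_mem_open (Set.mem_univ (a z)) isOpen_univ
  let V : S'.Opens := a ⁻¹ᵁ W ⊓ b ⁻¹ᵁ W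
  have hV : z ∈ V := ⟨hzW, show b z ∈ W from hpt z ▸ hzW⟩
  refine ⟨V, hV, ?_⟩
  rw [← Scheme.Hom.resLE_comp_ι a (inf_le_left : V ≤ a ⁻¹ᵁ W), ← Scheme.Hom.resLE_comp_ι b (inf_le_right : V ≤ b ⁻¹ᵁ W)]
  congr 1
  have : IsAffine (W : Scheme.{u}) := hW
  have key : a.appLE W V inf_le_left = b.appLE W V inf_le_right := by
    ext c
    apply hinj V
    have e : ∀ (m : S' ⟶ Y) (em : V ≤ m ⁻¹ᵁ W), π.app V (m.appLE W V em c) =
        (π ≫ m).appLE W (π ⁻¹ᵁ V) (π.preimage_mono em) c := fun m em => by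
      rw [← Scheme.Hom.appLE_comp_appLE π m W V (π ⁻¹ᵁ V) em le_rfl, Scheme.Hom.app_eq_appLE]
      rfl
    rw [e a, e b]
    simp only [h]
  rw [← cancel_mono (W : Scheme.{u}).isoSpec.hom]
  simp only [Scheme.isoSpec, asIso_hom, Scheme.toSpecΓ_naturality,
    Scheme.Hom.app_eq_appLE, Scheme.Hom.resLE_appLE, Scheme.Hom.appTop]
  congr 2
  have : ∀ (U₀ : S'.Opens) (V₀ : Y.Opens) (eU : V = U₀) (eV : W = V₀),
      a.appLE V₀ U₀ (eU ▸ eV ▸ inf_le_left) = b.appLE V₀ U₀ (eU ▸ eV ▸ inf_le_right) := by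
    rintro _ _ rfl rfl; exact key
  apply this <;> simp [V]

variable {X S Y : Scheme.{u}} (ξ : X ⟶ S) (f : X ⟶ Y)

lemma surjective_of_app_bijective [IsProper ξ] (h0 : ∀ U : S.Opens, Function.Bijective (ξ.app U).hom) :
    Surjective ξ := by
  refine ⟨fun s => ?_⟩
  by_contra hs
  let N : S.Opens := ⟨(Set.range ξ)ᶜ, (ξ.isClosedMap.isClosed_range).isOpen_compl⟩
  have hN : ξ ⁻¹ᵁ N = ⊥ := eq_bot_iff.2 fun x hx => hx ⟨x, rfl⟩
  have hsub : Subsingleton Γ(X, ξ ⁻¹ᵁ N) := by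
    rw [hN]; exact CommRingCat.subsingleton_of_isTerminal X.sheaf.isTerminalOfEmpty
  have hsub' : Subsingleton Γ(S, N) := (h0 N).1.subsingleton
  have : (0 : S.presheaf.stalk s) = 1 := by
    rw [← map_zero (S.presheaf.germ N s hs).hom, ← map_one (S.presheaf.germ N s hs).hom]
    exact congrArg _ (Subsingleton.elim _ _)
  exact zero_ne_one this

lemma restrict_eq_of_app_bijective [IsProper ξ] (h0 : ∀ U : S.Opens, Function.Bijective (ξ.app U).hom)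
    (N : S.Opens) (a b : (N : Scheme.{u}) ⟶ Y) (h : (ξ ∣_ N) ≫ a = (ξ ∣_ N) ≫ b) : a = b := by
  have := surjective_of_app_bijective ξ h0
  have : Surjective (ξ ∣_ N) :=
    IsZariskiLocalAtTarget.restrict (P := @Surjective) ‹_› N
  refine eq_of_surjective_of_injective (ξ ∣_ N) (fun U => ?_) a b h
  rw [morphismRestrict_app]
  exact (ConcreteCategory.bijective_of_isIso (X.presheaf.map _)).1.comp (h0 _).1

/-- Near a collapsed fibre the morphism factors through the base. -/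
lemma exists_factor_nhd [IsProper ξ] (h0 : ∀ U : S.Opens, Function.Bijective (ξ.app U).hom)
    (s : S) (y : Y) (hy : ∀ x, ξ x = s → f x = y) :
    ∃ (N : S.Opens) (r : (N : Scheme.{u}) ⟶ Y), s ∈ N ∧ (ξ ∣_ N) ≫ r = (ξ ⁻¹ᵁ N).ι ≫ f := by
  obtain ⟨_, ⟨(W : Y.Opens), hW, rfl⟩, hyW, -⟩ :=
    Y.isBasis_affineOpens.exists_subset_of_mem_open (Set.mem_univ y) isOpen_univ
  let N : S.Opens := ⟨(ξ '' (f ⁻¹' W)ᶜ)ᶜ,
    (ξ.isClosedMap _ (W.2.preimage f.continuous).isClosed_compl).isOpen_compl⟩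
  have hsN : s ∈ N := by
    rintro ⟨x, hx, hxs⟩
    exact hx (show f x ∈ W from hy x hxs ▸ hyW)
  have : IsAffine (W : Scheme.{u}) := hW
  let g : (ξ ⁻¹ᵁ N).toScheme ⟶ (W : Scheme.{u}) := IsOpenImmersion.lift W.ι ((ξ ⁻¹ᵁ N).ι ≫ f) (by
    rintro _ ⟨⟨x, hx⟩, rfl⟩
    rw [Scheme.Opens.range_ι]
    by_contra h
    exact hx ⟨x, h, rfl⟩)
  have : IsIso (ξ ∣_ N).appTop := by
    rw [ConcreteCategory.isIso_iff_bijective, Scheme.Hom.appTop, morphismRestrict_app]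
    exact (ConcreteCategory.bijective_of_isIso (X.presheaf.map _)).comp (h0 _)
  let ψ : (N : Scheme.{u}) ⟶ (W : Scheme.{u}) :=
    (N : Scheme.{u}).toSpecΓ ≫ Spec.map (g.appTop ≫ inv (ξ ∣_ N).appTop) ≫ (W : Scheme.{u}).isoSpec.inv
  have hψ : (ξ ∣_ N) ≫ ψ = g := by
    simp only [ψ]
    rw [Scheme.toSpecΓ_naturality_assoc, ← Spec.map_comp_assoc, Category.assoc, IsIso.inv_hom_id,
      Category.comp_id, ← Scheme.toSpecΓ_naturality_assoc, ← Scheme.isoSpec_hom, Iso.hom_inv_id, Category.comp_id]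
  exact ⟨N, ψ ≫ W.ι, hsN, by rw [reassoc_of% hψ]; exact IsOpenImmersion.lift_fac _ _ _⟩

lemma eq_overlap [IsProper ξ] (h0 : ∀ U : S.Opens, Function.Bijective (ξ.app U).hom)
    (N₁ N₂ : S.Opens) (r₁ : (N₁ : Scheme.{u}) ⟶ Y) (r₂ : (N₂ : Scheme.{u}) ⟶ Y)
    (h₁ : (ξ ∣_ N₁) ≫ r₁ = (ξ ⁻¹ᵁ N₁).ι ≫ f) (h₂ : (ξ ∣_ N₂) ≫ r₂ = (ξ ⁻¹ᵁ N₂).ι ≫ f)
    {P : Scheme.{u}} (a : P ⟶ N₁) (b : P ⟶ N₂) (h : a ≫ N₁.ι = b ≫ N₂.ι) : a ≫ r₁ = b ≫ r₂ := by
  have e : S.homOfLE (inf_le_left : N₁ ⊓ N₂ ≤ N₁) ≫ r₁ = S.homOfLE (inf_le_right : N₁ ⊓ N₂ ≤ N₂) ≫ r₂ := by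
    refine restrict_eq_of_app_bijective ξ h0 _ _ _ ?_
    have t : ∀ (M : S.Opens) (hM : N₁ ⊓ N₂ ≤ M), (ξ ∣_ (N₁ ⊓ N₂)) ≫ S.homOfLE hM =
        X.homOfLE (ξ.preimage_mono hM) ≫ (ξ ∣_ M) := fun M hM => by
      rw [← cancel_mono M.ι]; simp
    rw [← Category.assoc, t, Category.assoc, h₁, ← Category.assoc (ξ ∣_ (N₁ ⊓ N₂)), t, Category.assoc, h₂]
    simp
  let k : P ⟶ (N₁ ⊓ N₂ : S.Opens) := IsOpenImmersion.lift (N₁ ⊓ N₂).ι (a ≫ N₁.ι) (by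
    rintro _ ⟨z, rfl⟩
    rw [Scheme.Opens.range_ι]
    refine ⟨?_, ?_⟩
    · exact (a z).2
    · rw [h]; exact (b z).2)
  have hk : k ≫ (N₁ ⊓ N₂).ι = a ≫ N₁.ι := IsOpenImmersion.lift_fac _ _ _
  have ha : a = k ≫ S.homOfLE inf_le_left := by rw [← cancel_mono N₁.ι]; simp [hk]
  have hb : b = k ≫ S.homOfLE inf_le_right := by rw [← cancel_mono N₂.ι]; simp [hk, h]
  rw [ha, hb, Category.assoc, Category.assoc, e]

/-- The collapsed locus represents the condition that the base change of `f` factors through the base. -/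
theorem collapse_represents [IsProper ξ] (h0 : ∀ U : S.Opens, Function.Bijective (ξ.app U).hom)
    (v : Y ⟶ S) (hf : f ≫ v = ξ) :
    IsOpen {s : ↥S | ∃ y : ↥Y, ∀ x : ↥X, ξ x = s → f x = y} ∧
    ∀ (T : Scheme.{u}) (τ : T ⟶ S),
      ((∃ r : T ⟶ Y, r ≫ v = τ ∧ pullback.fst ξ τ ≫ f = pullback.snd ξ τ ≫ r) ↔
        ∀ t : ↥T, τ t ∈ {s : ↥S | ∃ y : ↥Y, ∀ x : ↥X, ξ x = s → f x = y}) := by
  constructor
  · refine isOpen_iff_forall_mem_open.2 fun s ⟨y, hy⟩ => ?_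
    obtain ⟨N, r, hsN, hr⟩ := exists_factor_nhd ξ f h0 s y hy
    refine ⟨N, fun s' hs' => ⟨r ⟨s', hs'⟩, fun x hx => ?_⟩, N.2, hsN⟩
    subst hx
    have e : (ξ ∣_ N) ⟨x, hs'⟩ = ⟨ξ x, hs'⟩ := Subtype.ext congr($(morphismRestrict_ι ξ N) ⟨x, hs'⟩)
    have h2 : r ((ξ ∣_ N) ⟨x, hs'⟩) = f x := congr($(hr) ⟨x, hs'⟩)
    rw [← h2, e]
  intro T τ
  constructor
  · rintro ⟨r, -, hr⟩ t
    refine ⟨r t, fun x hx => ?_⟩
    obtain ⟨z, rfl, rfl⟩ := Scheme.Pullback.exists_preimage_pullback x t hx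
    exact congr($(hr) z)
  intro h
  choose y hy using h
  choose N r hN hr using fun t => exists_factor_nhd ξ f h0 (τ t) (y t) (hy t)
  have hcov : IsOpenCover fun t => τ ⁻¹ᵁ N t :=
    top_le_iff.1 fun t _ => Opens.mem_iSup.2 ⟨t, hN t⟩
  let 𝒰 := Scheme.openCoverOfIsOpenCover T (fun t => τ ⁻¹ᵁ N t) hcov
  let R : T ⟶ Y := 𝒰.glueMorphisms (fun t : T => (τ ∣_ N t) ≫ r t) fun i j => by
    rw [← Category.assoc, ← Category.assoc]
    refine eq_overlap ξ f h0 _ _ _ _ (hr i) (hr j) _ _ ?_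
    simp only [Category.assoc, morphismRestrict_ι]
    exact pullback.condition_assoc τ
  have hR : ∀ t : T, (τ ⁻¹ᵁ N t).ι ≫ R = (τ ∣_ N t) ≫ r t := fun t => Scheme.Cover.ι_glueMorphisms 𝒰 _ _ t
  refine ⟨R, eq_of_forall_exists_opens _ _ fun t => ⟨τ ⁻¹ᵁ N t, hN t, ?_⟩,
    eq_of_forall_exists_opens _ _ fun z => ⟨pullback.snd ξ τ ⁻¹ᵁ (τ ⁻¹ᵁ N (pullback.snd ξ τ z)), hN _, ?_⟩⟩
  · rw [reassoc_of% hR t]
    have e : r t ≫ v = (N t).ι := by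
      refine restrict_eq_of_app_bijective ξ h0 _ _ _ ?_
      rw [← Category.assoc, hr t, Category.assoc, hf, morphismRestrict_ι]
    rw [e, morphismRestrict_ι]
  · set t := pullback.snd ξ τ z
    let O := pullback.snd ξ τ ⁻¹ᵁ (τ ⁻¹ᵁ N t)
    let l : O.toScheme ⟶ (ξ ⁻¹ᵁ N t).toScheme :=
      IsOpenImmersion.lift (ξ ⁻¹ᵁ N t).ι (O.ι ≫ pullback.fst ξ τ) (by
        rintro _ ⟨⟨w, hw⟩, rfl⟩
        rw [Scheme.Opens.range_ι]
        show (pullback.fst ξ τ ≫ ξ) w ∈ N t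
        rw [pullback.condition]; exact hw)
    have hl : l ≫ (ξ ⁻¹ᵁ N t).ι = O.ι ≫ pullback.fst ξ τ := IsOpenImmersion.lift_fac _ _ _
    have e : l ≫ (ξ ∣_ N t) = (pullback.snd ξ τ ∣_ (τ ⁻¹ᵁ N t)) ≫ (τ ∣_ N t) := by
      rw [← cancel_mono (N t).ι, Category.assoc, morphismRestrict_ι, reassoc_of% hl, Category.assoc,
        morphismRestrict_ι, morphismRestrict_ι_assoc, pullback.condition]
    show O.ι ≫ pullback.fst ξ τ ≫ f = O.ι ≫ pullback.snd ξ τ ≫ R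
    rw [← reassoc_of% hl, ← hr t, reassoc_of% e, ← hR t, morphismRestrict_ι_assoc]

end Groth.Agent.Rig93
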