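import Groth.Agent.Rig93.General
import Groth.Agent.Rig93.Connected

/-! Consequences of rigidity for group schemes over an arbitrary base. -/

set_option autoImplicit false

universe u

set_option backward.isDefEq.respectTransparency false

open CategoryTheory CategoryTheory.Limits MonoidalCategory CartesianMonoidalCategory MonObj GrpObj AlgebraicGeometry TopologicalSpace

namespace Groth.Agent.Rig93

variable {S : Scheme.{u}}

/-- A map with only constant functions on its source, landing set-theoretically in an affine open,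
factors through an affine base. -/
lemma exists_factor_affine {Z B Y : Scheme.{u}} (h : Z ⟶ B) [IsAffine B] (hb : Function.Bijective h.appTop)
    (f : Z ⟶ Y) (W : Y.Opens) (hW : IsAffineOpen W) (hr : Set.range f ⊆ W) :
    ∃ r : B ⟶ Y, f = h ≫ r := by
  have : IsAffine (W : Scheme.{u}) := hW
  have : IsIso h.appTop := (ConcreteCategory.isIso_iff_bijective _).2 hb
  let φ : Z ⟶ (W : Scheme.{u}) := IsOpenImmersion.lift W.ι f (by rwa [Scheme.Opens.range_ι])
  refine ⟨B.toSpecΓ ≫ Spec.map (φ.appTop ≫ inv h.appTop) ≫ (W : Scheme.{u}).isoSpec.inv ≫ W.ι, ?_⟩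
  rw [Scheme.toSpecΓ_naturality_assoc, ← Spec.map_comp_assoc, Category.assoc, IsIso.inv_hom_id,
    Category.comp_id, ← Scheme.toSpecΓ_naturality_assoc, ← Scheme.isoSpec_hom, Iso.hom_inv_id_assoc]
  exact (IsOpenImmersion.lift_fac _ _ _).symm

/-- General form of `prod_decomp`. -/
theorem prod_decomp_general (X Y G : Over S) [GrpObj G] [IsSeparated G.hom] [LocallyOfFinitePresentation G.hom]
    [QuasiCompact G.hom] [IsProper X.hom] [Flat X.hom] [LocallyOfFinitePresentation X.hom]
    (h0 : ∀ s : S, Function.Bijective (pullback.snd X.hom (S.fromSpecResidueField s)).appTop)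
    (e : 𝟙_ (Over S) ⟶ Y)
    (hcl : ∀ U : Set Y.left, IsClopen U → Set.range e.left ⊆ U → U = Set.univ)
    (f : X ⊗ Y ⟶ G) :
    ∃ h : Y ⟶ G, f = (fst X Y ≫ slice X e ≫ f) * (snd X Y ≫ h) := by
  set φ : X ⊗ Y ⟶ G := (fst X Y ≫ slice X e ≫ f)⁻¹ * f with hφ
  let F : (X ⊗ Y).left ⟶ (G ⊗ Y).left := (lift φ (snd X Y)).left
  have : IsProper (snd X Y).left := inferInstanceAs (IsProper (pullback.snd X.hom Y.hom))
  have : Flat (snd X Y).left := inferInstanceAs (Flat (pullback.snd X.hom Y.hom))
  have : LocallyOfFinitePresentation (snd X Y).left :=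
    inferInstanceAs (LocallyOfFinitePresentation (pullback.snd X.hom Y.hom))
  have : LocallyOfFinitePresentation (snd G Y).left :=
    inferInstanceAs (LocallyOfFinitePresentation (pullback.snd G.hom Y.hom))
  have : QuasiCompact (snd G Y).left := inferInstanceAs (QuasiCompact (pullback.snd G.hom Y.hom))
  have : IsSeparated (snd G Y).left := inferInstanceAs (IsSeparated (pullback.snd G.hom Y.hom))
  have h0' : ∀ y : Y.left, Function.Bijective
      (pullback.snd (snd X Y).left (Y.left.fromSpecResidueField y)).appTop :=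
    fun y => h0_baseChange X.hom Y.hom h0 y
  have hF : F ≫ (snd G Y).left = (snd X Y).left := by
    rw [← Over.comp_left, lift_snd]
  have hs : slice X e ≫ lift φ (snd X Y) = toUnit X ≫ lift η[G] e := by
    have hone : slice X e ≫ φ = toUnit X ≫ η[G] := by
      have h1 : slice X e ≫ fst X Y = 𝟙 X := lift_fst _ _
      rw [hφ, MonObj.comp_mul, GrpObj.comp_inv, reassoc_of% h1, inv_mul_cancel, Hom.one_def]
    rw [comp_lift, hone, comp_lift]
    congr 1
    exact lift_snd _ _
  have hcol : Set.range e.left ⊆ collapse (snd X Y).left F := by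
    rintro _ ⟨s, rfl⟩
    have hv : ∀ z : ↥(X ⊗ Y).left, (snd X Y).left z = e.left s → F z = (lift η[G] e).left s := by
      intro z hz
      obtain ⟨x, hx, hxs⟩ := Scheme.exists_preimage_of_isPullback (isPullback_slice X e) z s hz
      rw [← hx, ← hxs]
      exact congrArg (fun m : X ⟶ G ⊗ Y => m.left x) hs
    exact fun z z' hz hz' => (hv z hz).trans (hv z' hz').symm
  obtain ⟨ho, hc, hfac⟩ := collapse_general (snd X Y).left (snd G Y).left F hF h0'
  obtain ⟨k, hk, hkF⟩ := hfac ⊤ (by rw [hcl _ ⟨hc, ho⟩ hcol]; exact Set.subset_univ _)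
  let t : Y.left ⟶ (G ⊗ Y).left := Y.left.topIso.inv ≫ k
  have ht : t ≫ (snd G Y).left = 𝟙 Y.left := by
    rw [Category.assoc, hk, ← Scheme.topIso_hom, Iso.inv_hom_id]
  have htF : F = (snd X Y).left ≫ t := by
    have : IsIso ((snd X Y).left ⁻¹ᵁ ⊤).ι := inferInstanceAs (IsIso (Scheme.topIso _).hom)
    rw [← cancel_epi ((snd X Y).left ⁻¹ᵁ ⊤).ι, hkF, ← morphismRestrict_ι_assoc]
    simp [t, ← Scheme.topIso_hom]
  have hw : (t ≫ (fst G Y).left) ≫ G.hom = Y.hom := by
    rw [Category.assoc, Over.w, ← Over.w (snd G Y), reassoc_of% ht]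
  refine ⟨Over.homMk (t ≫ (fst G Y).left) hw, ?_⟩
  have h2 : φ = snd X Y ≫ Over.homMk (t ≫ (fst G Y).left) hw := by
    ext : 1
    show φ.left = (snd X Y).left ≫ t ≫ (fst G Y).left
    rw [← lift_fst φ (snd X Y), Over.comp_left, ← Category.assoc, ← htF]
  rw [← h2, hφ, mul_inv_cancel_left]

/-- A pointed morphism from an abelian scheme to a separated finitely presented group scheme is a
homomorphism. -/
theorem isMonHom_general (X G : Over S) [GrpObj X] [GrpObj G] [IsSeparated G.hom]
    [LocallyOfFinitePresentation G.hom] [QuasiCompact G.hom] [IsProper X.hom] [Flat X.hom]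
    [LocallyOfFinitePresentation X.hom] [GeometricallyConnected X.hom] [GeometricallyReduced X.hom]
    (f : X ⟶ G) (hf : η[X] ≫ f = η[G]) : IsMonHom f := by
  have hcl : ∀ U : Set X.left, IsClopen U → Set.range η[X].left ⊆ U → U = Set.univ := by
    refine fun U hU hr => Set.eq_univ_of_forall fun x => ?_
    have hx : X.hom (η[X].left (X.hom x)) = X.hom x := congrArg (fun m : S ⟶ S => m (X.hom x)) (Over.w η[X])
    exact (X.hom.isConnected_preimage_singleton (X.hom x)).isPreconnected.subset_isClopen hU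
      ⟨_, hx, hr ⟨_, rfl⟩⟩ rfl
  obtain ⟨h, hh⟩ := prod_decomp_general X X G (fun s => h0_of_geometrically X.hom s) η[X] hcl (μ[X] ≫ f)
  have e1 : slice X η[X] ≫ μ[X] = 𝟙 X := by
    rw [slice, ← Hom.mul_def, ← Hom.one_def, _root_.mul_one]
  rw [reassoc_of% e1] at hh
  have e2 : lift (toUnit X ≫ η[X]) (𝟙 X) ≫ μ[X] = 𝟙 X := by
    rw [← Hom.mul_def, ← Hom.one_def, _root_.one_mul]
  have h3 := lift (toUnit X ≫ η[X]) (𝟙 X) ≫= hh
  rw [reassoc_of% e2, MonObj.comp_mul, lift_fst_assoc, lift_snd_assoc, Category.id_comp, Category.assoc, hf,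
    ← Hom.one_def, _root_.one_mul] at h3
  refine ⟨hf, ?_⟩
  rw [hh, ← h3, Hom.mul_def]
  congr 1

end Groth.Agent.Rig93
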