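import Groth.Agent.Rig93.Global
import Groth.Agent.Crv77.Const

/-!
Proper geometrically connected and geometrically reduced schemes over a field have only constant
functions, and this property is invariant under field extension.
-/

set_option autoImplicit false

universe u

set_option backward.isDefEq.respectTransparency false

open CategoryTheory CategoryTheory.Limits AlgebraicGeometry TopologicalSpace Opposite
open scoped TensorProduct

namespace Groth.Agent.Rig93

lemma bijective_appTop_of_isAlgClosed {K : Type u} [Field K] [IsAlgClosed K] {X : Scheme.{u}}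
    (h : X ⟶ Spec (CommRingCat.of K)) [IsProper h] [IsReduced X] [ConnectedSpace X] :
    Function.Bijective h.appTop := by
  let ρ : CommRingCat.of K ⟶ Γ(X, ⊤) := (Scheme.ΓSpecIso (CommRingCat.of K)).inv ≫ h.appTop
  suffices hρ : Function.Bijective ρ by
    simp only [ρ, CommRingCat.hom_comp, RingHom.coe_comp] at hρ
    exact (Function.Bijective.of_comp_iff _ (ConcreteCategory.bijective_of_isIso
      (Scheme.ΓSpecIso (CommRingCat.of K)).inv)).1 hρ
  have : Nontrivial Γ(X, ⊤) := by
    obtain ⟨p⟩ : Nonempty X := inferInstance
    exact (X.Γevaluation p).hom.domain_nontrivial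
  let := ρ.hom.toAlgebra
  refine ⟨ρ.hom.injective, fun c => ?_⟩
  have hint : ρ.hom.IsIntegralElem c := by
    have h1 := RingHom.IsIntegral.trans (Scheme.ΓSpecIso (CommRingCat.of K)).inv.hom h.appTop.hom
      (RingHom.isIntegral_of_surjective _ (ConcreteCategory.bijective_of_isIso
        (Scheme.ΓSpecIso (CommRingCat.of K)).inv).2) (isIntegral_appTop_of_universallyClosed h)
    exact h1 c
  obtain ⟨P, hP, hPc⟩ := hint
  have hid : ∀ e : Γ(X, ⊤), IsIdempotentElem e → e = 0 ∨ e = 1 := fun e he =>
    Crv77.eq_zero_or_one_of_isIdempotentElem he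
  have hunit : ∀ b : K, c - ρ b = 0 ∨ IsUnit (c - ρ b) := fun b => by
    by_cases h0 : c - ρ b = 0
    · exact Or.inl h0
    · have hi : IsIntegral K (c - ρ b) := (show IsIntegral K c from ⟨P, hP, hPc⟩).sub isIntegral_algebraMap
      obtain ⟨z, -, hz⟩ := Crv77.exists_mul_eq_one_of_isIntegral hid hi h0
      exact Or.inr (IsUnit.of_mul_eq_one _ hz)
  by_contra hc
  push Not at hc
  have hu : IsUnit (Polynomial.aeval c P) := by
    rw [(IsAlgClosed.splits P).eq_prod_roots_of_monic hP, map_multiset_prod, Multiset.map_map]
    refine Multiset.prod_induction _ _ (fun a b => IsUnit.mul) isUnit_one fun a ha => ?_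
    obtain ⟨b, -, rfl⟩ := Multiset.mem_map.1 ha
    simp only [Function.comp_apply, map_sub, Polynomial.aeval_X, Polynomial.aeval_C]
    exact (hunit b).resolve_left fun h0 => hc b (sub_eq_zero.1 h0).symm
  rw [show Polynomial.aeval c P = 0 from hPc] at hu
  exact not_isUnit_zero hu

lemma faithfullyFlat_of_isField {A B : Type u} [CommRing A] [CommRing B] [Nontrivial B] (hA : IsField A)
    [Algebra A B] : Module.FaithfullyFlat A B := by
  let := hA.toField
  infer_instance

/-- Having only constant functions is invariant under extension of the base field. -/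
lemma bijective_appTop_iff {k K : Type u} [Field k] [Field K] {X : Scheme.{u}} (h : X ⟶ Spec (CommRingCat.of k))
    [QuasiCompact h] [QuasiSeparated h] (φ : CommRingCat.of k ⟶ CommRingCat.of K) :
    Function.Bijective h.appTop ↔ Function.Bijective (pullback.snd h (Spec.map φ)).appTop := by
  have : CompactSpace X := QuasiCompact.compactSpace_of_compactSpace h
  have : QuasiSeparatedSpace X := (quasiSeparated_iff_quasiSeparatedSpace h).1 inferInstance
  have : Flat (Spec.map φ) := by
    rw [HasRingHomProperty.Spec_iff (P := @Flat)]
    let := φ.hom.toAlgebra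
    exact inferInstanceAs (Module.Flat k K)
  have hiso := isIso_pushoutSection_of_isQuasiSeparated_of_flat_right (IsPullback.of_hasPullback h (Spec.map φ))
    (US := ⊤) (UT := ⊤) (UX := ⊤) (UY := ⊤) (by simp) (by simp) (by simp)
    (isAffineOpen_top _) (isAffineOpen_top _) isCompact_univ isQuasiSeparated_univ
  have hpush : IsPushout h.appTop (Spec.map φ).appTop (pullback.fst h (Spec.map φ)).appTop
      (pullback.snd h (Spec.map φ)).appTop := by
    have := (isIso_pushoutSection_iff ..).mp hiso
    simp only [Scheme.Hom.appTop, Scheme.Hom.app_eq_appLE]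
    exact this
  constructor
  · intro hb
    have : IsIso h.appTop := (ConcreteCategory.isIso_iff_bijective _).2 hb
    have := hpush.isIso_inr_of_isIso
    exact ConcreteCategory.bijective_of_isIso _
  · intro hb
    algebraize [(Spec.map φ).appTop.hom, h.appTop.hom]
    have hff : RingHom.FaithfullyFlat
        (algebraMap Γ(Spec (CommRingCat.of k), ⊤) Γ(Spec (CommRingCat.of K), ⊤)) := by
      have : Nontrivial Γ(Spec (CommRingCat.of K), ⊤) :=
        (Scheme.ΓSpecIso (CommRingCat.of K)).commRingCatIsoToRingEquiv.toEquiv.nontrivial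
      rw [RingHom.faithfullyFlat_algebraMap_iff]
      exact faithfullyFlat_of_isField
        ((Scheme.ΓSpecIso (CommRingCat.of k)).commRingCatIsoToRingEquiv.toMulEquiv.isField (Field.toIsField k))
    let ι := (CommRingCat.isPushout_tensorProduct Γ(Spec (CommRingCat.of k), ⊤)
      Γ(Spec (CommRingCat.of K), ⊤) Γ(X, ⊤))
    let e := hpush.flip.isoIsPushout _ _ ι
    have he := hpush.flip.inl_isoIsPushout_hom _ _ ι
    have hb' : Function.Bijective (algebraMap Γ(Spec (CommRingCat.of K), ⊤)
        (Γ(Spec (CommRingCat.of K), ⊤) ⊗[Γ(Spec (CommRingCat.of k), ⊤)] Γ(X, ⊤))) := by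
      have h2 := (ConcreteCategory.bijective_of_isIso e.hom).comp hb
      rw [← RingHom.coe_comp, ← CommRingCat.hom_comp, he] at h2
      exact h2
    exact RingHom.CodescendsAlong.algebraMap_tensorProduct _ _ _ _ RingHom.FaithfullyFlat.codescendsAlong_bijective hff hb'

lemma bijective_appTop_of_iso {X X' S : Scheme.{u}} (e : X' ≅ X) (a : X' ⟶ S) (b : X ⟶ S) (h : e.hom ≫ b = a) :
    Function.Bijective a.appTop ↔ Function.Bijective b.appTop := by
  rw [← h, Scheme.Hom.comp_appTop]
  show Function.Bijective (⇑e.hom.appTop.hom ∘ ⇑b.appTop.hom) ↔ _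
  exact Function.Bijective.of_comp_iff' (ConcreteCategory.bijective_of_isIso e.hom.appTop) _

lemma bijective_appTop_of_geometrically {k : Type u} [Field k] {X : Scheme.{u}} (h : X ⟶ Spec (CommRingCat.of k))
    [IsProper h] [GeometricallyConnected h] [GeometricallyReduced h] : Function.Bijective h.appTop := by
  let φ : CommRingCat.of k ⟶ CommRingCat.of (AlgebraicClosure k) := CommRingCat.ofHom (algebraMap _ _)
  rw [bijective_appTop_iff h φ]
  have : IsReduced (pullback h (Spec.map φ)) :=
    GeometricallyReduced.geometrically_isReduced _ _ _ (.of_hasPullback _ _)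
  have : ConnectedSpace ↥(pullback h (Spec.map φ)) :=
    GeometricallyConnected.geometrically_connectedSpace _ _ _ (.of_hasPullback _ _)
  exact bijective_appTop_of_isAlgClosed _

/-- Fibres of proper morphisms with geometrically connected and reduced fibres have only constant
functions. -/
theorem h0_of_geometrically {S X : Scheme.{u}} (p : X ⟶ S) [IsProper p] [GeometricallyConnected p]
    [GeometricallyReduced p] (s : S) :
    Function.Bijective (pullback.snd p (S.fromSpecResidueField s)).appTop :=
  bijective_appTop_of_geometrically (k := S.residueField s) (pullback.snd p (S.fromSpecResidueField s))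

/-- The hypothesis on the fibres is stable under base change. -/
theorem h0_baseChange {S X T : Scheme.{u}} (p : X ⟶ S) [QuasiCompact p] [QuasiSeparated p] (g : T ⟶ S)
    (h0 : ∀ s : S, Function.Bijective (pullback.snd p (S.fromSpecResidueField s)).appTop) (t : T) :
    Function.Bijective (pullback.snd (pullback.snd p g) (T.fromSpecResidueField t)).appTop := by
  let φ : CommRingCat.of (S.residueField (g t)) ⟶ CommRingCat.of (T.residueField t) := g.residueFieldMap t
  have hφ : Spec.map φ ≫ S.fromSpecResidueField (g t) = T.fromSpecResidueField t ≫ g :=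
    g.SpecMap_residueFieldMap_fromSpecResidueField t
  have h1 := (bijective_appTop_iff (k := S.residueField (g t)) (K := T.residueField t)
    (pullback.snd p (S.fromSpecResidueField (g t))) φ).1 (h0 (g t))
  have h2 := (bijective_appTop_of_iso (pullbackLeftPullbackSndIso p (S.fromSpecResidueField (g t)) (Spec.map φ))
    _ _ (pullbackLeftPullbackSndIso_hom_snd _ _ _)).1 h1
  refine (bijective_appTop_of_iso (pullbackLeftPullbackSndIso p g (T.fromSpecResidueField t) ≪≫
    pullback.congrHom rfl hφ.symm) _ _ ?_).2 h2
  simp

end Groth.Agent.Rig93
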