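import Groth.Agent.Rig93.Local
import Groth.Agent.Alb96.GeomInt

/-!
The rigidity lemma over a locally Noetherian base.
-/

set_option autoImplicit false

universe u

set_option backward.isDefEq.respectTransparency false

open CategoryTheory CategoryTheory.Limits AlgebraicGeometry TopologicalSpace Opposite IsLocalRing

namespace Groth.Agent.Rig93

lemma opens_ι_comp_eq_of_locally {T Y : Scheme.{u}} (O : T.Opens) (a b : T ⟶ Y)
    (h : ∀ x ∈ O, ∃ U : T.Opens, x ∈ U ∧ U.ι ≫ a = U.ι ≫ b) : O.ι ≫ a = O.ι ≫ b := by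
  choose U hxU hU using h
  refine Scheme.Cover.hom_ext (Scheme.openCoverOfIsOpenCover O.toScheme
    (fun x : O => O.ι ⁻¹ᵁ U x.1 x.2) ?_) _ _ fun x => ?_
  · exact top_le_iff.1 fun z _ => Opens.mem_iSup.2 ⟨z, hxU z.1 z.2⟩
  · show (O.ι ⁻¹ᵁ U x.1 x.2).ι ≫ O.ι ≫ a = (O.ι ⁻¹ᵁ U x.1 x.2).ι ≫ O.ι ≫ b
    rw [← morphismRestrict_ι_assoc, hU, morphismRestrict_ι_assoc]

lemma eq_of_forall_exists_opens {T Y : Scheme.{u}} (a b : T ⟶ Y)
    (h : ∀ x, ∃ U : T.Opens, x ∈ U ∧ U.ι ≫ a = U.ι ≫ b) : a = b := by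
  have h1 := opens_ι_comp_eq_of_locally ⊤ a b fun x _ => h x
  have : IsIso (⊤ : T.Opens).ι := inferInstanceAs (IsIso (Scheme.topIso _).hom)
  exact (cancel_epi (⊤ : T.Opens).ι).1 h1

lemma surjective_of_h0 {X S : Scheme.{u}} (p : X ⟶ S) (s : S)
    (h0 : Function.Bijective (pullback.snd p (S.fromSpecResidueField s)).appTop) : ∃ x, p x = s := by
  have hne : Nonempty ↥(pullback p (S.fromSpecResidueField s)) := by
    by_contra hne
    rw [not_nonempty_iff] at hne
    have h01 : (0 : Γ(Spec (S.residueField s), ⊤)) = 1 := h0.1 (Subsingleton.elim _ _)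
    exact zero_ne_one h01
  obtain ⟨z⟩ := hne
  refine ⟨pullback.fst p (S.fromSpecResidueField s) z, ?_⟩
  rw [← Scheme.Hom.comp_apply, pullback.condition, Scheme.Hom.comp_apply, Scheme.fromSpecResidueField_apply]

/-- Two maps into `X` over `S`, followed by a morphism constant on the fibre over `s`, agree over a
neighbourhood of `s`. -/
theorem exists_open_eq {S X Y T : Scheme.{u}} [IsLocallyNoetherian S] [IsLocallyNoetherian T]
    (p : X ⟶ S) [Flat p] (f : X ⟶ Y) (u v : T ⟶ X) (huv : u ≫ p = v ≫ p)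
    (ht : IsClosedMap (u ≫ p)) (s : S)
    (h0 : Function.Bijective (pullback.snd p (S.fromSpecResidueField s)).appTop)
    (hs : ∀ x x' : X, p x = s → p x' = s → f x = f x') :
    ∃ N : S.Opens, s ∈ N ∧ ((u ≫ p) ⁻¹ᵁ N).ι ≫ u ≫ f = ((u ≫ p) ⁻¹ᵁ N).ι ≫ v ≫ f := by
  let O : Set T := {w | ∃ U : T.Opens, w ∈ U ∧ U.ι ≫ u ≫ f = U.ι ≫ v ≫ f}
  have hO : IsOpen O := isOpen_iff_forall_mem_open.2 fun w ⟨U, hw, hU⟩ => ⟨U, fun z hz => ⟨U, hz, hU⟩, U.2, hw⟩
  obtain ⟨x₀, hx₀⟩ := surjective_of_h0 p s h0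
  have hfib : (u ≫ p) ⁻¹' {s} ⊆ O := fun w hw =>
    spread_out_unique_of_isGermInjective' (u ≫ f) (v ≫ f)
      (fromSpecStalk_comp_eq p f s h0 (f x₀) (fun x hx => hs x x₀ hx hx₀) u v huv w hw)
  let N : S.Opens := ⟨((u ≫ p) '' Oᶜ)ᶜ, (ht _ hO.isClosed_compl).isOpen_compl⟩
  refine ⟨N, ?_, opens_ι_comp_eq_of_locally _ _ _ fun w hw => ?_⟩
  · rintro ⟨w, hw, hws⟩
    exact hw (hfib hws)
  · by_contra h
    exact hw ⟨w, h, rfl⟩

/-- In a locally Noetherian scheme, an open stable under specialisation is closed. -/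
lemma isClosed_of_isOpen_of_specialization {S : Scheme.{u}} [IsLocallyNoetherian S] {U : Set S}
    (hU : IsOpen U) (h : StableUnderSpecialization U) : IsClosed U := by
  let O : S.Opens := ⟨U, hU⟩
  have h1 : SpecializingMap O.ι := by
    intro a y hy
    exact ⟨⟨y, h hy a.2⟩, (subtype_specializes_iff _ _).2 hy, rfl⟩
  have h2 := ((isClosedMap_iff_specializingMap O.ι).2 h1).isClosed_range
  rwa [Scheme.Opens.range_ι] at h2

/-- If `q` is separated, the points where two morphisms over the base agree as points contain, with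
a point, its specialisations. -/
lemma eq_of_specializes {T Y S : Scheme.{u}} (q : Y ⟶ S) [IsSeparated q] (a b : T ⟶ Y)
    (hab : a ≫ q = b ≫ q) {w' w : T} (hw : w' ⤳ w)
    (U : T.Opens) (hU : U.ι ≫ a = U.ι ≫ b) (hw' : w' ∈ U) : a w = b w := by
  let A : Over S := Over.mk (a ≫ q)
  let a' : A ⟶ Over.mk q := Over.homMk a rfl
  let b' : A ⟶ Over.mk q := Over.homMk b hab.symm
  let E := equalizer a' b'
  let e : E ⟶ A := equalizer.ι a' b'
  have : IsSeparated (Over.mk q).hom := ‹_›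
  have : IsClosedImmersion e.left := isClosedImmersion_equalizer_ι_left a' b'
  let j : Over.mk (U.ι ≫ a ≫ q) ⟶ A := Over.homMk U.ι rfl
  let z : Over.mk (U.ι ≫ a ≫ q) ⟶ E := equalizer.lift j (by ext : 1; exact hU)
  have hz : z.left ≫ e.left = U.ι := congrArg CommaMorphism.left (equalizer.lift_ι j _)
  have hmem : w ∈ Set.range e.left := by
    refine hw.mem_closed e.left.isClosedEmbedding.isClosed_range ⟨z.left ⟨w', hw'⟩, ?_⟩
    rw [← Scheme.Hom.comp_apply, hz]
    rfl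
  obtain ⟨r, rfl⟩ := hmem
  show (e.left ≫ a) r = (e.left ≫ b) r
  exact congrArg (fun m : E ⟶ Over.mk q => m.left r) (equalizer.condition a' b')

/-- The set of points over which `f` collapses the fibre. -/
def collapse {S X Y : Scheme.{u}} (p : X ⟶ S) (f : X ⟶ Y) : Set S :=
  {s | ∀ x x' : X, p x = s → p x' = s → f x = f x'}

/-- The collapsed locus is open and closed, and over it the two maps agree: abstract form. -/
theorem collapse_spec {S X Y T : Scheme.{u}} [IsLocallyNoetherian S] [IsLocallyNoetherian T]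
    (p : X ⟶ S) [Flat p] (q : Y ⟶ S) [IsSeparated q] (f : X ⟶ Y) (hf : f ≫ q = p)
    (u v : T ⟶ X) (huv : u ≫ p = v ≫ p) (ht : IsClosedMap (u ≫ p))
    (hgen : GeneralizingMap (u ≫ p))
    (hpair : ∀ N : S.Opens, (∀ w, (u ≫ p) w ∈ N → (u ≫ f) w = (v ≫ f) w) → (N : Set S) ⊆ collapse p f)
    (hpt : ∀ s, (∀ w, (u ≫ p) w = s → (u ≫ f) w = (v ≫ f) w) → s ∈ collapse p f)
    (h0 : ∀ s : S, Function.Bijective (pullback.snd p (S.fromSpecResidueField s)).appTop) :
    IsOpen (collapse p f) ∧ IsClosed (collapse p f) ∧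
      ∀ s ∈ collapse p f, ∃ N : S.Opens, s ∈ N ∧
        ((u ≫ p) ⁻¹ᵁ N).ι ≫ u ≫ f = ((u ≫ p) ⁻¹ᵁ N).ι ≫ v ≫ f := by
  have hloc : ∀ s ∈ collapse p f, ∃ N : S.Opens, s ∈ N ∧
      ((u ≫ p) ⁻¹ᵁ N).ι ≫ u ≫ f = ((u ≫ p) ⁻¹ᵁ N).ι ≫ v ≫ f :=
    fun s hs => exists_open_eq p f u v huv ht s (h0 s) hs
  have hopen : IsOpen (collapse p f) := by
    refine isOpen_iff_forall_mem_open.2 fun s hs => ?_
    obtain ⟨N, hsN, hN⟩ := hloc s hs
    refine ⟨N, hpair N fun w hw => ?_, N.2, hsN⟩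
    exact congr($(hN) ⟨w, hw⟩)
  refine ⟨hopen, isClosed_of_isOpen_of_specialization hopen fun s s' hss hs => hpt s' fun w hw => ?_, hloc⟩
  obtain ⟨w', hw', hs'⟩ := hgen (hw ▸ hss : s ⤳ (u ≫ p) w)
  obtain ⟨N, hsN, hN⟩ := hloc s hs
  exact eq_of_specializes q (u ≫ f) (v ≫ f) (by rw [Category.assoc, Category.assoc, hf, huv]) hw'
    ((u ≫ p) ⁻¹ᵁ N) hN (show (u ≫ p) w' ∈ N by rw [hs']; exact hsN)

/-- The collapsed locus of a closed flat morphism with a section. -/
theorem collapse_of_section {S X Y : Scheme.{u}} [IsLocallyNoetherian S] [IsLocallyNoetherian X]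
    (p : X ⟶ S) [Flat p] (hp : IsClosedMap p) (e : S ⟶ X) (he : e ≫ p = 𝟙 S)
    (q : Y ⟶ S) [IsSeparated q] (f : X ⟶ Y) (hf : f ≫ q = p)
    (h0 : ∀ s : S, Function.Bijective (pullback.snd p (S.fromSpecResidueField s)).appTop) :
    IsOpen (collapse p f) ∧ IsClosed (collapse p f) ∧
      ∀ s ∈ collapse p f, ∃ N : S.Opens, s ∈ N ∧ (p ⁻¹ᵁ N).ι ≫ f = (p ⁻¹ᵁ N).ι ≫ p ≫ e ≫ f := by
  have h := collapse_spec p q f hf (𝟙 X) (p ≫ e) (by rw [Category.id_comp, Category.assoc, he, Category.comp_id])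
    (by rw [Category.id_comp]; exact hp) (by rw [Category.id_comp]; exact Flat.generalizingMap p)
    (fun N hN s hs x x' hx hx' => ?_) (fun s hs x x' hx hx' => ?_) h0
  · refine ⟨h.1, h.2.1, fun s hs => ?_⟩
    obtain ⟨N, hN, hh⟩ := h.2.2 s hs
    refine ⟨N, hN, ?_⟩
    simp only [Category.id_comp, Category.assoc] at hh
    exact hh
  · have h1 := hN x (by simpa [hx] using hs)
    have h2 := hN x' (by simpa [hx'] using hs)
    simp only [Category.id_comp, Category.assoc, Scheme.Hom.comp_apply] at h1 h2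
    rw [h1, h2, hx, hx']
  · have h1 := hs x (by simpa using hx)
    have h2 := hs x' (by simpa using hx')
    simp only [Category.id_comp, Category.assoc, Scheme.Hom.comp_apply] at h1 h2
    rw [h1, h2, hx, hx']

/-- The collapsed locus of a proper flat morphism. -/
theorem collapse_of_proper {S X Y : Scheme.{u}} [IsLocallyNoetherian S]
    (p : X ⟶ S) [Flat p] [IsProper p]
    (q : Y ⟶ S) [IsSeparated q] (f : X ⟶ Y) (hf : f ≫ q = p)
    (h0 : ∀ s : S, Function.Bijective (pullback.snd p (S.fromSpecResidueField s)).appTop) :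
    IsOpen (collapse p f) ∧ IsClosed (collapse p f) ∧
      ∀ s ∈ collapse p f, ∃ N : S.Opens, s ∈ N ∧
        ((pullback.fst p p ≫ p) ⁻¹ᵁ N).ι ≫ pullback.fst p p ≫ f =
          ((pullback.fst p p ≫ p) ⁻¹ᵁ N).ι ≫ pullback.snd p p ≫ f := by
  have : IsLocallyNoetherian (pullback p p) :=
    LocallyOfFiniteType.isLocallyNoetherian (pullback.fst p p ≫ p)
  refine collapse_spec p q f hf (pullback.fst p p) (pullback.snd p p) pullback.condition
    (pullback.fst p p ≫ p).isClosedMap (Flat.generalizingMap _)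
    (fun N hN s hs x x' hx hx' => ?_) (fun s hs x x' hx hx' => ?_) h0
  all_goals obtain ⟨w, rfl, rfl⟩ := Scheme.Pullback.exists_preimage_pullback x x' (hx.trans hx'.symm)
  · exact hN w (by rw [Scheme.Hom.comp_apply, hx]; exact hs)
  · exact hs w (by rw [Scheme.Hom.comp_apply, hx])

/-- Global rigidity with a section. -/
theorem eq_of_section {S X Y : Scheme.{u}} [IsLocallyNoetherian S] [IsLocallyNoetherian X] [PreconnectedSpace S]
    (p : X ⟶ S) [Flat p] (hp : IsClosedMap p) (e : S ⟶ X) (he : e ≫ p = 𝟙 S)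
    (q : Y ⟶ S) [IsSeparated q] (f : X ⟶ Y) (hf : f ≫ q = p)
    (h0 : ∀ s : S, Function.Bijective (pullback.snd p (S.fromSpecResidueField s)).appTop)
    (s : S) (hs : s ∈ collapse p f) : f = p ≫ e ≫ f := by
  obtain ⟨ho, hc, hl⟩ := collapse_of_section p hp e he q f hf h0
  have huniv := IsClopen.eq_univ ⟨hc, ho⟩ ⟨s, hs⟩
  refine eq_of_forall_exists_opens _ _ fun x => ?_
  obtain ⟨N, hN, h⟩ := hl (p x) (huniv ▸ trivial)
  exact ⟨p ⁻¹ᵁ N, hN, h⟩

/-- A morphism which collapses all fibres of a proper flat morphism factors through the base. -/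
theorem exists_factor_of_collapse {S X Y : Scheme.{u}} [IsLocallyNoetherian S]
    (p : X ⟶ S) [Flat p] [IsProper p]
    (q : Y ⟶ S) [IsSeparated q] (f : X ⟶ Y) (hf : f ≫ q = p)
    (h0 : ∀ s : S, Function.Bijective (pullback.snd p (S.fromSpecResidueField s)).appTop)
    (huniv : collapse p f = Set.univ) : ∃ t : S ⟶ Y, t ≫ q = 𝟙 S ∧ f = p ≫ t := by
  obtain ⟨ho, hc, hl⟩ := collapse_of_proper p q f hf h0
  have heq : pullback.fst p p ≫ f = pullback.snd p p ≫ f := eq_of_forall_exists_opens _ _ fun w => by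
    obtain ⟨N, hN, h⟩ := hl ((pullback.fst p p ≫ p) w) (huniv ▸ trivial)
    exact ⟨_, hN, h⟩
  have : Surjective p := ⟨fun z => surjective_of_h0 p z (h0 z)⟩
  have hd : ∀ {Z : Scheme.{u}} (g₁ g₂ : Z ⟶ X), g₁ ≫ p = g₂ ≫ p → g₁ ≫ f = g₂ ≫ f := by
    intro Z g₁ g₂ h
    have := congr(pullback.lift g₁ g₂ h ≫ $(heq))
    simpa [pullback.lift_fst_assoc, pullback.lift_snd_assoc] using this
  refine ⟨EffectiveEpi.desc p f hd, ?_, (EffectiveEpi.fac p f hd).symm⟩
  rw [← cancel_epi p, EffectiveEpi.fac_assoc, hf, Category.comp_id]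

/-- Global rigidity for a proper flat morphism. -/
theorem exists_factor_of_proper {S X Y : Scheme.{u}} [IsLocallyNoetherian S] [PreconnectedSpace S]
    (p : X ⟶ S) [Flat p] [IsProper p]
    (q : Y ⟶ S) [IsSeparated q] (f : X ⟶ Y) (hf : f ≫ q = p)
    (h0 : ∀ s : S, Function.Bijective (pullback.snd p (S.fromSpecResidueField s)).appTop)
    (s : S) (hs : s ∈ collapse p f) : ∃ t : S ⟶ Y, t ≫ q = 𝟙 S ∧ f = p ≫ t := by
  obtain ⟨ho, hc, -⟩ := collapse_of_proper p q f hf h0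
  exact exists_factor_of_collapse p q f hf h0 (IsClopen.eq_univ ⟨hc, ho⟩ ⟨s, hs⟩)

/-- Fibres of proper geometrically integral morphisms have only constant functions. -/
theorem h0_of_geometricallyIntegral {S X : Scheme.{u}} (p : X ⟶ S) [IsProper p] [GeometricallyIntegral p] (s : S) :
    Function.Bijective (pullback.snd p (S.fromSpecResidueField s)).appTop := by
  have : GeometricallyIntegral (pullback.snd p (S.fromSpecResidueField s)) :=
    MorphismProperty.pullback_snd _ _ ‹_›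
  let Z : Over (Spec (CommRingCat.of (S.residueField s))) := Over.mk (pullback.snd p (S.fromSpecResidueField s))
  have : IsProper Z.hom := inferInstanceAs (IsProper (pullback.snd p (S.fromSpecResidueField s)))
  have : GeometricallyIntegral Z.hom := ‹GeometricallyIntegral (pullback.snd p (S.fromSpecResidueField s))›
  have h := Alb96.antiAffine_of_geometricallyIntegral Z
  rw [CommRingCat.hom_comp, RingHom.coe_comp] at h
  exact ((Function.Bijective.of_comp_iff _ (ConcreteCategory.bijective_of_isIso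
    (Scheme.ΓSpecIso (CommRingCat.of (S.residueField s))).inv)).1 h)

end Groth.Agent.Rig93
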