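import Groth.Agent.Rig93.Fibre

/-!
Consequences of rigidity for morphisms into group schemes.
-/

set_option autoImplicit false

universe u

set_option backward.isDefEq.respectTransparency false

open CategoryTheory CategoryTheory.Limits MonoidalCategory CartesianMonoidalCategory MonObj GrpObj AlgebraicGeometry

namespace Groth.Agent.Rig93

variable {S : Scheme.{u}}

lemma hom_one_eq (G : Over S) [GrpObj G] : η[G] = (1 : 𝟙_ (Over S) ⟶ G) := by
  simp [Hom.one_def, toUnit_unit]

/-- The slice of a product at a section. -/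
noncomputable def slice (X : Over S) {Y : Over S} (e : 𝟙_ (Over S) ⟶ Y) : X ⟶ X ⊗ Y := lift (𝟙 X) (toUnit X ≫ e)

lemma isPullback_slice (X : Over S) {Y : Over S} (e : 𝟙_ (Over S) ⟶ Y) :
    IsPullback (slice X e).left X.hom (snd X Y).left e.left := by
  have h1 : (slice X e).left ≫ (fst X Y).left = 𝟙 X.left := by
    rw [← Over.comp_left, slice, lift_fst]; rfl
  have h2 : (slice X e).left ≫ (snd X Y).left = X.hom ≫ e.left := by
    rw [← Over.comp_left, slice, lift_snd, Over.comp_left, Over.toUnit_left]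
  refine IsPullback.of_right (v₁₃ := X.hom) (h₁₂ := (fst X Y).left) (h₂₂ := Y.hom) ?_ h2
    (IsPullback.of_hasPullback X.hom Y.hom)
  rw [h1, show e.left ≫ Y.hom = 𝟙 S from Over.w e]
  exact IsPullback.of_horiz_isIso ⟨by simp⟩

/-- A morphism from a product into a group scheme decomposes, when one factor is proper and flat
with only constant functions on its fibres and the other has no clopen subset larger than a section. -/
theorem prod_decomp (X Y G : Over S) [GrpObj G] [IsSeparated G.hom] [IsLocallyNoetherian Y.left]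
    [IsProper X.hom] [Flat X.hom]
    (h0 : ∀ s : S, Function.Bijective (pullback.snd X.hom (S.fromSpecResidueField s)).appTop)
    (e : 𝟙_ (Over S) ⟶ Y)
    (hcl : ∀ U : Set Y.left, IsClopen U → Set.range e.left ⊆ U → U = Set.univ)
    (f : X ⊗ Y ⟶ G) :
    ∃ h : Y ⟶ G, f = (fst X Y ≫ slice X e ≫ f) * (snd X Y ≫ h) := by
  set φ : X ⊗ Y ⟶ G := (fst X Y ≫ slice X e ≫ f)⁻¹ * f with hφ
  let F : (X ⊗ Y).left ⟶ (G ⊗ Y).left := (lift φ (snd X Y)).left
  have : IsProper (snd X Y).left := inferInstanceAs (IsProper (pullback.snd X.hom Y.hom))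
  have : Flat (snd X Y).left := inferInstanceAs (Flat (pullback.snd X.hom Y.hom))
  have : IsSeparated (snd G Y).left := inferInstanceAs (IsSeparated (pullback.snd G.hom Y.hom))
  have h0' : ∀ y : Y.left, Function.Bijective
      (pullback.snd (snd X Y).left (Y.left.fromSpecResidueField y)).appTop :=
    fun y => h0_baseChange X.hom Y.hom h0 y
  have hF : F ≫ (snd G Y).left = (snd X Y).left := by
    rw [← Over.comp_left, lift_snd]
  have hs : slice X e ≫ lift φ (snd X Y) = toUnit X ≫ lift η[G] e := by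
    have hone : slice X e ≫ φ = toUnit X ≫ η[G] := by
      have h1 : slice X e ≫ fst X Y = 𝟙 X := lift_fst _ _
      rw [hφ, MonObj.comp_mul, GrpObj.comp_inv, reassoc_of% h1, inv_mul_cancel, Hom.one_def]
    rw [comp_lift, hone, comp_lift]
    congr 1
    exact lift_snd _ _
  have hcol : Set.range e.left ⊆ collapse (snd X Y).left F := by
    rintro _ ⟨s, rfl⟩
    have hv : ∀ z : ↥(X ⊗ Y).left, (snd X Y).left z = e.left s → F z = (lift η[G] e).left s := by
      intro z hz
      obtain ⟨x, hx, hxs⟩ := Scheme.exists_preimage_of_isPullback (isPullback_slice X e) z s hz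
      rw [← hx, ← hxs]
      exact congrArg (fun m : X ⟶ G ⊗ Y => m.left x) hs
    exact fun z z' hz hz' => (hv z hz).trans (hv z' hz').symm
  obtain ⟨ho, hc, -⟩ := collapse_of_proper (snd X Y).left (snd G Y).left F hF h0'
  obtain ⟨t, ht, htF⟩ := exists_factor_of_collapse (snd X Y).left (snd G Y).left F hF h0' (hcl _ ⟨hc, ho⟩ hcol)
  refine ⟨Over.homMk (t ≫ (fst G Y).left) ?_, ?_⟩
  · rw [Category.assoc, Over.w, ← Over.w (snd G Y), reassoc_of% ht]
  · have h2 : φ = snd X Y ≫ Over.homMk (t ≫ (fst G Y).left)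
        (by rw [Category.assoc, Over.w, ← Over.w (snd G Y), reassoc_of% ht]) := by
      ext : 1
      show φ.left = (snd X Y).left ≫ t ≫ (fst G Y).left
      rw [← lift_fst φ (snd X Y), Over.comp_left, ← Category.assoc, ← htF]
    rw [← h2, hφ, mul_inv_cancel_left]

/-- Two maps to a group scheme which agree on one fibre differ by a section. -/
theorem exists_translate [IsLocallyNoetherian S] [PreconnectedSpace S] (X G : Over S) [GrpObj G]
    [IsSeparated G.hom] [IsProper X.hom] [Flat X.hom]
    (h0 : ∀ s : S, Function.Bijective (pullback.snd X.hom (S.fromSpecResidueField s)).appTop)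
    (f g : X ⟶ G) (s : S)
    (hs : pullback.fst X.hom (S.fromSpecResidueField s) ≫ f.left =
      pullback.fst X.hom (S.fromSpecResidueField s) ≫ g.left) :
    ∃ t : 𝟙_ (Over S) ⟶ G, f = (toUnit X ≫ t) * g := by
  let h : X ⟶ G := f * g⁻¹
  let Z : Over S := Over.mk (pullback.fst X.hom (S.fromSpecResidueField s) ≫ X.hom)
  let j : Z ⟶ X := Over.homMk (pullback.fst X.hom (S.fromSpecResidueField s)) rfl
  have hj : j ≫ h = toUnit Z ≫ η[G] := by
    have e : j ≫ f = j ≫ g := by ext : 1; exact hs
    rw [MonObj.comp_mul, GrpObj.comp_inv, e, mul_inv_cancel, Hom.one_def]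
  have hcol : s ∈ collapse X.hom h.left := by
    have hv : ∀ x, X.hom x = s → h.left x = η[G].left s := by
      intro x hx
      obtain ⟨z, rfl⟩ : x ∈ Set.range (pullback.fst X.hom (S.fromSpecResidueField s)) := by
        rw [Scheme.Pullback.range_fst, Scheme.range_fromSpecResidueField]; exact hx
      conv_rhs => rw [← hx]
      exact congrArg (fun m : Z ⟶ G => m.left z) hj
    exact fun x x' hx hx' => (hv x hx).trans (hv x' hx').symm
  obtain ⟨t, ht, htF⟩ := exists_factor_of_proper X.hom G.hom h.left (Over.w h) h0 s hcol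
  refine ⟨Over.homMk t ht, ?_⟩
  have : h = toUnit X ≫ Over.homMk t ht := by ext : 1; exact htF
  rw [← this, inv_mul_cancel_right]

/-- A pointed morphism from a proper flat group scheme with connected fibres is a homomorphism. -/
theorem isMonHom_of_pointed (X G : Over S) [GrpObj X] [GrpObj G] [IsSeparated G.hom] [IsLocallyNoetherian X.left]
    [IsProper X.hom] [Flat X.hom]
    (h0 : ∀ s : S, Function.Bijective (pullback.snd X.hom (S.fromSpecResidueField s)).appTop)
    (hconn : ∀ s : S, _root_.IsPreconnected (X.hom ⁻¹' {s}))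
    (f : X ⟶ G) (hf : η[X] ≫ f = η[G]) : IsMonHom f := by
  have hcl : ∀ U : Set X.left, IsClopen U → Set.range η[X].left ⊆ U → U = Set.univ := by
    refine fun U hU hr => Set.eq_univ_of_forall fun x => ?_
    have hx : X.hom (η[X].left (X.hom x)) = X.hom x := congrArg (fun m : S ⟶ S => m (X.hom x)) (Over.w η[X])
    exact (hconn (X.hom x)).subset_isClopen hU ⟨_, hx, hr ⟨_, rfl⟩⟩ rfl
  obtain ⟨h, hh⟩ := prod_decomp X X G h0 η[X] hcl (μ[X] ≫ f)
  have e1 : slice X η[X] ≫ μ[X] = 𝟙 X := by
    rw [slice, ← Hom.mul_def, ← Hom.one_def, _root_.mul_one]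
  rw [reassoc_of% e1] at hh
  have e2 : lift (toUnit X ≫ η[X]) (𝟙 X) ≫ μ[X] = 𝟙 X := by
    rw [← Hom.mul_def, ← Hom.one_def, _root_.one_mul]
  have h3 := lift (toUnit X ≫ η[X]) (𝟙 X) ≫= hh
  rw [reassoc_of% e2, MonObj.comp_mul, lift_fst_assoc, lift_snd_assoc, Category.id_comp, Category.assoc, hf,
    ← Hom.one_def, _root_.one_mul] at h3
  refine ⟨hf, ?_⟩
  rw [hh, ← h3, Hom.mul_def]
  congr 1

end Groth.Agent.Rig93
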