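import Groth.Agent.Lim60.Props
import Groth.Agent.FlatStage64.Main
import Mathlib.AlgebraicGeometry.Morphisms.Flat
import Mathlib.RingTheory.Extension.Presentation.Core

/-! Flatness of finitely presented morphisms descends to a stage of a limit. -/

set_option autoImplicit false
set_option backward.isDefEq.respectTransparency.types false

universe u

open CategoryTheory CategoryTheory.Limits AlgebraicGeometry TensorProduct
open Groth.Agent.LimDesc62 Groth.Agent.CAlg5

namespace Groth.Agent.Rig93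

variable {R : Type u} [CommRing R] {ι : Type u} {G : ι → Type u} [∀ l, CommRing (G l)]
  [∀ l, Algebra R (G l)] {A : Type u} [CommRing A] [Algebra R A] {g : ∀ l, G l →ₐ[R] A}

/-- A finitely generated subalgebra over a Noetherian ring maps to some stage. -/
theorem exists_hom_stage (hs : ColimSys R G A g) {R₀ : Type u} [CommRing R₀] [IsNoetherianRing R₀]
    [Algebra R₀ R] [Algebra R₀ A] [IsScalarTower R₀ R A] [∀ l, Algebra R₀ (G l)]
    [∀ l, IsScalarTower R₀ R (G l)] (Cs : Subalgebra R₀ A) (hCs : Cs.FG) :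
    ∃ l, Nonempty (Cs →ₐ[R₀] G l) := by
  classical
  obtain ⟨s, rfl⟩ := hCs
  obtain ⟨i⟩ := hs.nonempty
  obtain ⟨l, -, -, x, hx⟩ := hs.exists_lift s id i
  let φ : MvPolynomial s R₀ →ₐ[R₀] A := MvPolynomial.aeval fun k => k.1
  let ξ : MvPolynomial s R₀ →ₐ[R₀] G l := MvPolynomial.aeval fun k => x k.1
  have hφ : φ.range = Algebra.adjoin R₀ (s : Set A) := by
    rw [Algebra.adjoin_eq_range]
    rfl
  have hgξ : ∀ q, g l (ξ q) = φ q := by
    intro q
    have : ((g l).restrictScalars R₀).comp ξ = φ := by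
      refine MvPolynomial.algHom_ext fun k => ?_
      show g l (ξ (MvPolynomial.X k)) = φ (MvPolynomial.X k)
      rw [MvPolynomial.aeval_X, MvPolynomial.aeval_X]
      exact hx k.1 k.2
    exact DFunLike.congr_fun this q
  obtain ⟨T, hT⟩ := (IsNoetherian.noetherian (RingHom.ker φ.toRingHom) : (RingHom.ker φ.toRingHom).FG)
  obtain ⟨m, h, -, hk⟩ := hs.exists_kill T l (fun q => ξ q) fun q hq => by
    rw [hgξ]
    exact RingHom.mem_ker.1 (hT ▸ Ideal.subset_span hq : q ∈ RingHom.ker φ.toRingHom)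
  let ξ' : MvPolynomial s R₀ →ₐ[R₀] G m := (h.restrictScalars R₀).comp ξ
  have hker : RingHom.ker φ.toRingHom ≤ RingHom.ker ξ'.toRingHom := by
    rw [← hT, Ideal.span_le]
    exact fun q hq => RingHom.mem_ker.2 (hk q hq)
  let e : (MvPolynomial s R₀ ⧸ RingHom.ker φ.toRingHom) ≃ₐ[R₀] φ.range :=
    Ideal.quotientKerEquivRange φ
  exact ⟨m, ⟨(Ideal.Quotient.liftₐ _ ξ' fun q hq => hker hq).comp
    ((Subalgebra.equivOfEq _ _ hφ).symm.toAlgHom |> fun t => e.symm.toAlgHom.comp t)⟩⟩

/-- Flatness of a finitely presented algebra descends to a stage. -/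
theorem exists_flat (hs : ColimSys R G A g) (C : Type u) [CommRing C] [Algebra R C]
    [Algebra.FinitePresentation R C] (hA : Module.Flat A (A ⊗[R] C)) :
    ∃ l, Module.Flat (G l) (G l ⊗[R] C) := by
  let P := Algebra.Presentation.ofFinitePresentation R C
  let R₀ : Subalgebra ℤ R := Algebra.adjoin ℤ P.coeffs
  have hR₀ : R₀.FG := ⟨P.finite_coeffs.toFinset, by simp [R₀]⟩
  have : Algebra.FiniteType ℤ R₀ := (Subalgebra.fg_iff_finiteType R₀).mp hR₀
  have : IsNoetherianRing R₀ := Algebra.FiniteType.isNoetherianRing ℤ R₀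
  have : P.HasCoeffs R₀ := ⟨by simp [R₀]⟩
  let C₀ := P.ModelOfHasCoeffs R₀
  let eC : R ⊗[R₀] C₀ ≃ₐ[R] C := P.tensorModelOfHasCoeffsEquiv R₀
  have hcancel : ∀ (D : Type u) [CommRing D] [Algebra R D],
      Nonempty ((D ⊗[R₀] C₀) ≃ₗ[D] (D ⊗[R] C)) := fun D _ _ =>
    ⟨(AlgebraTensorModule.cancelBaseChange R₀ R D D C₀).symm ≪≫ₗ
      AlgebraTensorModule.congr (LinearEquiv.refl D D) eC.toLinearEquiv⟩
  have hflat : Module.Flat A (A ⊗[R₀] C₀) := Module.Flat.of_linearEquiv (hcancel A).some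
  have : Algebra.FiniteType R₀ C₀ := inferInstance
  obtain ⟨Cs, hCs, hf⟩ := FlatStage64.exists_fg_flat (R := R₀) C₀ (M := C₀) A hflat
  obtain ⟨l, ⟨ψ⟩⟩ := exists_hom_stage hs Cs hCs
  let : Algebra Cs (G l) := ψ.toRingHom.toAlgebra
  have : IsScalarTower R₀ Cs (G l) := IsScalarTower.of_algebraMap_eq fun c => (ψ.commutes c).symm
  have := hf Cs le_rfl
  have hGl : Module.Flat (G l) (G l ⊗[R₀] C₀) :=
    Module.Flat.of_linearEquiv (AlgebraTensorModule.cancelBaseChange R₀ Cs (G l) (G l) C₀).symm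
  exact ⟨l, Module.Flat.of_linearEquiv (hcancel (G l)).some.symm⟩

theorem descProp_flat : DescProp.{u} @LocallyOfFinitePresentation @Flat := by
  have := isStableUnderBaseChange_lfp.{u}
  refine DescProp.of_affine (Lim60.descProp_of_source (fun j f _ (hf : LocallyOfFinitePresentation f) =>
    (inferInstance : LocallyOfFinitePresentation (j ≫ f))) ?_)
  refine Lim60.descProp_of_ring (fun f => f.FinitePresentation) (fun f => f.Flat)
    RingHom.Flat.respectsIso (fun f _ _ h => Lim60.finitePresentation_appTop f h)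
    (fun f _ _ => HasRingHomProperty.iff_of_isAffine (P := @Flat)) ?_
  intro R _ ι G _ _ A _ _ g hs C _ _ hC hA
  have : Algebra.FinitePresentation R C := RingHom.finitePresentation_algebraMap.mp hC
  obtain ⟨l, hl⟩ := exists_flat hs C (RingHom.flat_algebraMap_iff.mp hA)
  exact ⟨l, RingHom.flat_algebraMap_iff.mpr hl⟩

end Groth.Agent.Rig93
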