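import Groth.Agent.Rig93.FlatDesc
import Groth.Agent.Rig93.Fibre
import Groth.Agent.ConsProp93.Approx
import Groth.Agent.LimTop61.IsoDescent

/-! The rigidity lemma over an arbitrary base, by Noetherian approximation. -/

set_option autoImplicit false

universe u

set_option backward.isDefEq.respectTransparency false

open CategoryTheory CategoryTheory.Limits AlgebraicGeometry TopologicalSpace

namespace Groth.Agent.Rig93

/-- A morphism from a flat finitely presented scheme comes from a Noetherian base. -/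
theorem exists_model {X Y S : Scheme.{u}} [CompactSpace S] [QuasiSeparatedSpace S] (p : X ⟶ S)
    [LocallyOfFinitePresentation p] [QuasiCompact p] [QuasiSeparated p] [Flat p] (q : Y ⟶ S)
    [LocallyOfFinitePresentation q] [QuasiCompact q] [QuasiSeparated q] (f : X ⟶ Y) (hf : f ≫ q = p) :
    ∃ (S' : Scheme.{u}) (_ : IsLocallyNoetherian S') (π : S ⟶ S') (X' Y' : Scheme.{u}) (p' : X' ⟶ S')
      (q' : Y' ⟶ S') (_ : LocallyOfFiniteType p') (_ : QuasiCompact p') (_ : QuasiSeparated p') (_ : Flat p') (f' : X' ⟶ Y') (eX : X ⟶ X') (eY : Y ⟶ Y'),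
      IsPullback eX p p' π ∧ IsPullback eY q q' π ∧ f' ≫ q' = p' ∧ eX ≫ f' = f ≫ eY := by
  obtain ⟨J, _, _, D, π, hD, ⟨hc⟩⟩ := Approx60.exists_approximation S
  have := hD.aff
  have := hD.compact
  have hln := fun i => @Approx60.isLocallyNoetherian_of_lft_toZ _ (hD.lft i)
  obtain ⟨i, Xi, ui, e, hl, hqc, hqs, he⟩ := Approx60.S0591 D _ hc X p
  obtain ⟨i', Yi, vi, e', hl', hqc', hqs', he'⟩ := Approx60.S0591 D _ hc Y q
  obtain ⟨k, a, b, -⟩ := IsCofilteredOrEmpty.cone_objs i i'
  obtain ⟨eX₀, -, hX₀⟩ := ConsProp93.exists_isPullback_of_fac he (IsPullback.of_hasPullback ui (D.map a))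
    (π.app k) ((Cone.mk S π).w a)
  obtain ⟨eY₀, -, hY₀⟩ := ConsProp93.exists_isPullback_of_fac he' (IsPullback.of_hasPullback vi (D.map b))
    (π.app k) ((Cone.mk S π).w b)
  let a₀ := pullback.snd ui (D.map a)
  let b₀ := pullback.snd vi (D.map b)
  have : CompactSpace ↥(pullback ui (D.map a)) := QuasiCompact.compactSpace_of_compactSpace a₀
  have : QuasiSeparatedSpace ↥(pullback ui (D.map a)) := quasiSeparatedSpace_of_quasiSeparated a₀
  have hw : (f ≫ eY₀) ≫ b₀ = p ≫ π.app k := by rw [Category.assoc, hY₀.w, reassoc_of% hf]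
  obtain ⟨j, φ, g, hg, hg'⟩ := LimTop61.exists_hom_descend (D := D) (c := Cone.mk S π) hc a₀ b₀ p eX₀ hX₀
    (f ≫ eY₀) hw
  obtain ⟨eX₁, heX₁, hX₁⟩ := ConsProp93.exists_isPullback_of_fac hX₀ (IsPullback.of_hasPullback a₀ (D.map φ))
    (π.app j) ((Cone.mk S π).w φ)
  let a₁ := pullback.snd a₀ (D.map φ)
  have : Flat (pullback.snd a₁ ((Cone.mk S π).π.app j)) :=
    (LimDesc62.prop_iff_of_isPullback (P := @Flat) hX₁).mp ‹Flat p›
  obtain ⟨m, ψ, hflat⟩ := descProp_flat.desc D (Cone.mk S π) hc j a₁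
    (inferInstance : LocallyOfFinitePresentation a₁) this
  obtain ⟨eX, heX, hX⟩ := ConsProp93.exists_isPullback_of_fac hX₁ (IsPullback.of_hasPullback a₁ (D.map ψ))
    (π.app m) ((Cone.mk S π).w ψ)
  obtain ⟨eY, heY, hY⟩ := ConsProp93.exists_isPullback_of_fac hY₀ (IsPullback.of_hasPullback b₀ (D.map (ψ ≫ φ)))
    (π.app m) ((Cone.mk S π).w (ψ ≫ φ))
  have hw' : (pullback.fst a₁ (D.map ψ) ≫ g) ≫ b₀ = pullback.snd a₁ (D.map ψ) ≫ D.map (ψ ≫ φ) := by
    simp only [Category.assoc, hg, pullback.condition, D.map_comp]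
    rw [← pullback.condition_assoc]
  refine ⟨D.obj m, hln m, π.app m, _, _, pullback.snd a₁ (D.map ψ), pullback.snd b₀ (D.map (ψ ≫ φ)),
    inferInstance, inferInstance, inferInstance, hflat, pullback.lift (pullback.fst a₁ (D.map ψ) ≫ g) (pullback.snd a₁ (D.map ψ)) hw',
    eX, eY, hX, hY, pullback.lift_snd _ _ _, ?_⟩
  have e₁ : eX₁ ≫ g = f ≫ eY₀ := by
    rw [← hg']
    congr 1
    apply pullback.hom_ext
    · rw [pullback.lift_fst, heX₁]
    · rw [pullback.lift_snd]; exact hX₁.w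
  apply pullback.hom_ext
  · rw [Category.assoc, pullback.lift_fst, Category.assoc, heY, reassoc_of% heX, e₁]
  · rw [Category.assoc, pullback.lift_snd, Category.assoc, hY.w, reassoc_of% hf]
    exact hX.w

lemma collapse_of_isPullback {S S' X X' Y Y' : Scheme.{u}} {p : X ⟶ S} {p' : X' ⟶ S'} {π : S ⟶ S'}
    {eX : X ⟶ X'} (hX : IsPullback eX p p' π) {f : X ⟶ Y} {f' : X' ⟶ Y'} {eY : Y ⟶ Y'}
    (w : eX ≫ f' = f ≫ eY) (s : S) (hs : s ∈ collapse p f) : π s ∈ collapse p' f' := by
  intro x x' hx hx'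
  obtain ⟨z, rfl, hz⟩ := Scheme.exists_preimage_of_isPullback hX x s hx
  obtain ⟨z', rfl, hz'⟩ := Scheme.exists_preimage_of_isPullback hX x' s hx'
  rw [← Scheme.Hom.comp_apply, ← Scheme.Hom.comp_apply, w, Scheme.Hom.comp_apply, Scheme.Hom.comp_apply,
    hs z z' hz hz']

lemma h0_iff_of_isPullback {S S' X X' : Scheme.{u}} {p : X ⟶ S} {p' : X' ⟶ S'} {π : S ⟶ S'}
    {eX : X ⟶ X'} (hX : IsPullback eX p p' π) [QuasiCompact p'] [QuasiSeparated p'] (t : S) :
    Function.Bijective (pullback.snd p (S.fromSpecResidueField t)).appTop ↔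
      Function.Bijective (pullback.snd p' (S'.fromSpecResidueField (π t))).appTop := by
  let φ : CommRingCat.of (S'.residueField (π t)) ⟶ CommRingCat.of (S.residueField t) := π.residueFieldMap t
  have hφ : Spec.map φ ≫ S'.fromSpecResidueField (π t) = S.fromSpecResidueField t ≫ π :=
    π.SpecMap_residueFieldMap_fromSpecResidueField t
  have h2 := (IsPullback.of_hasPullback p (S.fromSpecResidueField t)).paste_horiz hX
  refine Iff.trans ?_ ((bijective_appTop_of_iso
    (pullbackLeftPullbackSndIso p' (S'.fromSpecResidueField (π t)) (Spec.map φ))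
      _ _ (pullbackLeftPullbackSndIso_hom_snd _ _ _)).symm.trans
    (bijective_appTop_iff (k := S'.residueField (π t)) (K := S.residueField t)
      (pullback.snd p' (S'.fromSpecResidueField (π t))) φ).symm)
  exact bijective_appTop_of_iso (h2.isoPullback ≪≫ pullback.congrHom rfl hφ.symm) _ _ (by simp)

/-- Points over a collapsed point have neighbourhoods of agreement: affine base. -/
theorem exists_nhd_eq_of_affine {S X Y : Scheme.{u}} [IsAffine S] (p : X ⟶ S) [IsProper p] [Flat p]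
    [LocallyOfFinitePresentation p] (q : Y ⟶ S) [LocallyOfFinitePresentation q] [QuasiCompact q] [QuasiSeparated q]
    (f : X ⟶ Y) (hf : f ≫ q = p) (t : S)
    (h0 : Function.Bijective (pullback.snd p (S.fromSpecResidueField t)).appTop) (ht : t ∈ collapse p f)
    (w : ↥(pullback p p)) (hw : (pullback.fst p p ≫ p) w = t) :
    ∃ U : (pullback p p).Opens, w ∈ U ∧ U.ι ≫ pullback.fst p p ≫ f = U.ι ≫ pullback.snd p p ≫ f := by
  obtain ⟨S', _, π, X', Y', p', q', _, _, _, _, f', eX, eY, hX, hY, hf', hw'⟩ := exists_model p q f hf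
  have h0' : Function.Bijective (pullback.snd p' (S'.fromSpecResidueField (π t))).appTop :=
    (h0_iff_of_isPullback hX t).1 h0
  have ht' := collapse_of_isPullback hX hw' t ht
  obtain ⟨x₀, hx₀⟩ := surjective_of_h0 p' (π t) h0'
  have : IsLocallyNoetherian X' := LocallyOfFiniteType.isLocallyNoetherian p'
  have : IsLocallyNoetherian (pullback p' p') := LocallyOfFiniteType.isLocallyNoetherian (pullback.fst p' p')
  let E : pullback p p ⟶ pullback p' p' := pullback.map p p p' p' eX eX π hX.w.symm hX.w.symm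
  have hE₁ : E ≫ pullback.fst p' p' = pullback.fst p p ≫ eX := pullback.lift_fst _ _ _
  have hE₂ : E ≫ pullback.snd p' p' = pullback.snd p p ≫ eX := pullback.lift_snd _ _ _
  have hEw : (pullback.fst p' p' ≫ p') (E w) = π t := by
    rw [← Scheme.Hom.comp_apply, reassoc_of% hE₁, hX.w, ← hw]
    rfl
  obtain ⟨U', hU', hU'eq⟩ := spread_out_unique_of_isGermInjective' (pullback.fst p' p' ≫ f') (pullback.snd p' p' ≫ f')
    (fromSpecStalk_comp_eq p' f' (π t) h0' (f' x₀) (fun x hx => ht' x x₀ hx hx₀) _ _ pullback.condition (E w) hEw)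
  refine ⟨E ⁻¹ᵁ U', hU', ?_⟩
  have h1 := congr((E ∣_ U') ≫ $(hU'eq))
  rw [morphismRestrict_ι_assoc, morphismRestrict_ι_assoc, reassoc_of% hE₁, reassoc_of% hE₂, hw'] at h1
  apply hY.hom_ext
  · simpa only [Category.assoc] using h1
  · simp only [Category.assoc, hf, pullback.condition]

end Groth.Agent.Rig93
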