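import Mathlib

/-!
Coefficients of elements of `I B` modulo `m I B` for a flat algebra `B` over a local ring.
-/

set_option autoImplicit false

universe u v

open IsLocalRing

namespace Groth.Agent.Rig93

/-- A finitely generated ideal of a local ring has generators which are independent modulo `m I`. -/
theorem exists_indep_generators {A : Type u} [CommRing A] [IsLocalRing A] (I : Ideal A) (hI : I.FG) :
    ∃ (N : ℕ) (a : Fin N → A), Ideal.span (Set.range a) = I ∧
      ∀ c : Fin N → A, ∑ k, c k * a k ∈ maximalIdeal A * I → ∀ k, c k ∈ maximalIdeal A := by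
  classical
  have hex : ∃ N, ∃ a : Fin N → A, Ideal.span (Set.range a) = I :=
    Submodule.fg_iff_exists_fin_generating_family.1 hI
  obtain ⟨a, ha⟩ := Nat.find_spec hex
  refine ⟨Nat.find hex, a, ha, fun c hc k => ?_⟩
  by_contra hk
  have hu : IsUnit (c k) := by
    rwa [IsLocalRing.mem_maximalIdeal, mem_nonunits_iff, not_not] at hk
  obtain ⟨n, hn⟩ : ∃ n, Nat.find hex = n + 1 := ⟨Nat.find hex - 1, by have := k.2; omega⟩
  let ι : Type := {j : Fin (Nat.find hex) // j ≠ k}
  let J : Ideal A := Ideal.span (Set.range fun j : ι => a j.1)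
  have hJI : J ≤ I := by
    rw [← ha]; exact Ideal.span_mono (by rintro _ ⟨j, rfl⟩; exact ⟨j.1, rfl⟩)
  have hle : I ≤ J ⊔ maximalIdeal A • I := by
    conv_lhs => rw [← ha]
    rw [Ideal.span_le]
    rintro _ ⟨j, rfl⟩
    rcases ne_or_eq j k with h | rfl
    · exact Submodule.mem_sup_left (Ideal.subset_span ⟨⟨j, h⟩, rfl⟩)
    · obtain ⟨v, hv⟩ := hu.exists_left_inv
      have h1 : c j * a j = (∑ i, c i * a i) - ∑ i ∈ Finset.univ.erase j, c i * a i :=
        eq_sub_of_add_eq (Finset.add_sum_erase _ (fun i => c i * a i) (Finset.mem_univ j))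
      have h2 : c j * a j ∈ J ⊔ maximalIdeal A • I := by
        rw [h1]
        refine sub_mem (Submodule.mem_sup_right hc) (Submodule.mem_sup_left (Ideal.sum_mem _ fun i hi => ?_))
        exact Ideal.mul_mem_left _ _ (Ideal.subset_span ⟨⟨i, Finset.ne_of_mem_erase hi⟩, rfl⟩)
      have h3 : a j = v * (c j * a j) := by rw [← mul_assoc, hv, one_mul]
      rw [SetLike.mem_coe, h3]
      exact Ideal.mul_mem_left _ _ h2
  have hJ : J = I := le_antisymm hJI
    (Submodule.le_of_le_smul_of_le_jacobson_bot hI (IsLocalRing.maximalIdeal_le_jacobson _) hle)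
  have hcard : Fintype.card ι = n := by
    simp only [ι, Fintype.card_subtype_compl, Fintype.card_fin, Fintype.card_subtype_eq]
    omega
  refine Nat.find_min hex (show n < Nat.find hex by omega)
    ⟨fun i => a ((Fintype.equivFinOfCardEq hcard).symm i).1, ?_⟩
  have hr : (Set.range fun i => a ((Fintype.equivFinOfCardEq hcard).symm i).1) =
      Set.range fun j : ι => a j.1 :=
    ((Fintype.equivFinOfCardEq hcard).symm.surjective.range_comp (fun j : ι => a j.1))
  rw [hr]
  exact hJ

/-- For `B` flat over the local ring `A` and generators `a` of an ideal, independent modulo `m I`,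
the coefficients of an element of `I B` are well-defined modulo `m B`. -/
theorem coeff_mem {A : Type u} [CommRing A] [IsLocalRing A] {B : Type u} [CommRing B] [Algebra A B]
    [Module.Flat A B] {I : Ideal A} {N : ℕ} {a : Fin N → A} (hspan : Ideal.span (Set.range a) = I)
    (hind : ∀ c : Fin N → A, ∑ k, c k * a k ∈ maximalIdeal A * I → ∀ k, c k ∈ maximalIdeal A)
    (x : Fin N → B)
    (hx : ∑ k, x k * algebraMap A B (a k) ∈ (maximalIdeal A * I).map (algebraMap A B)) :
    ∀ k, x k ∈ (maximalIdeal A).map (algebraMap A B) := by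
  classical
  set mB := (maximalIdeal A).map (algebraMap A B)
  obtain ⟨y, hy, hxy⟩ : ∃ y : Fin N → B, (∀ k, y k ∈ mB) ∧
      ∑ k, x k * algebraMap A B (a k) = ∑ k, y k * algebraMap A B (a k) := by
    rw [Ideal.map_mul, ← hspan, Ideal.map_span, ← Set.range_comp, ← smul_eq_mul, ← Ideal.submodule_span_eq,
      Submodule.mem_ideal_smul_span_iff_exists_sum] at hx
    obtain ⟨y, hy, hsum⟩ := hx
    refine ⟨y, hy, hsum.symm.trans ?_⟩
    rw [Finsupp.sum_fintype _ _ fun i => by simp]
    simp [smul_eq_mul]
  have hz : ∑ k, a k • (x k - y k) = 0 := by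
    simp only [Algebra.smul_def, mul_sub, Finset.sum_sub_distrib]
    rw [sub_eq_zero]
    simpa [mul_comm] using hxy
  obtain ⟨l, c, w, hw, hc⟩ := Module.Flat.isTrivialRelation_of_sum_smul_eq_zero
    (R := A) (M := B) (f := a) (x := fun k => x k - y k) (by exact hz)
  intro k
  have hzk : x k - y k ∈ mB := by
    rw [show x k - y k = _ from hw k]
    refine Ideal.sum_mem _ fun j _ => ?_
    rw [Algebra.smul_def]
    refine Ideal.mul_mem_right _ _ (Ideal.mem_map_of_mem _ (hind (fun i => c i j) ?_ k))
    rw [show ∑ i, c i j * a i = 0 by rw [← hc j]; simp [mul_comm]]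
    exact zero_mem _
  simpa using add_mem hzk (hy k)

/-- Every element of `I B` is a combination of the generators. -/
theorem exists_coeff {A : Type u} [CommRing A] {B : Type u} [CommRing B] (φ : A →+* B) {I : Ideal A}
    {N : ℕ} {a : Fin N → A} (hspan : Ideal.span (Set.range a) = I) {r : B} (hr : r ∈ I.map φ) :
    ∃ x : Fin N → B, r = ∑ k, x k * φ (a k) := by
  rw [← hspan, Ideal.map_span, ← Set.range_comp] at hr
  obtain ⟨x, hx⟩ := Ideal.mem_span_range_iff_exists_fun.1 hr
  exact ⟨x, hx.symm⟩

end Groth.Agent.Rig93
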