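import Groth.Agent.Rig93.Alg

/-!
Functions near the closed fibre of a flat scheme over a local ring are constant modulo all powers
of the maximal ideal, if the closed fibre has only constant functions.
-/

set_option autoImplicit false

universe u

set_option backward.isDefEq.respectTransparency false

open CategoryTheory CategoryTheory.Limits AlgebraicGeometry TopologicalSpace Opposite IsLocalRing

namespace Groth.Agent.Rig93

variable {A : CommRingCat.{u}} {X : Scheme.{u}} (p : X ⟶ Spec A)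

/-- The structure map `A → Γ(X, U)`. -/
noncomputable def str (U : X.Opens) : A →+* Γ(X, U) :=
  ((Scheme.ΓSpecIso A).inv ≫ p.appLE ⊤ U le_top).hom

lemma str_apply (U : X.Opens) (a : A) :
    str p U a = (p.appLE ⊤ U le_top).hom ((Scheme.ΓSpecIso A).inv.hom a) := rfl

lemma str_res {U U' : X.Opens} (h : U' ≤ U) (a : A) :
    X.presheaf.map (homOfLE h).op (str p U a) = str p U' a := by
  rw [str_apply, str_apply, ← CommRingCat.comp_apply, Scheme.Hom.appLE_map]

lemma res_mem_map {U U' : X.Opens} (h : U' ≤ U) {I : Ideal A} {r : Γ(X, U)} (hr : r ∈ I.map (str p U)) :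
    X.presheaf.map (homOfLE h).op r ∈ I.map (str p U') := by
  have h1 := Ideal.mem_map_of_mem (X.presheaf.map (homOfLE h).op).hom hr
  rw [Ideal.map_map] at h1
  rwa [show (X.presheaf.map (homOfLE h).op).hom.comp (str p U) = str p U' from
    RingHom.ext fun a => str_res p h a] at h1

lemma res_res (Y : Scheme.{u}) {U V W : Y.Opens} (f : V ⟶ U) (g : W ⟶ V) (h : W ⟶ U) (x : Γ(Y, U)) :
    Y.presheaf.map g.op (Y.presheaf.map f.op x) = Y.presheaf.map h.op x := by
  rw [← ConcreteCategory.comp_apply, ← Functor.map_comp]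
  rfl

lemma str_flat [Flat p] {U : X.Opens} (hU : IsAffineOpen U) : (str p U).Flat := by
  rw [str, CommRingCat.hom_comp]
  exact RingHom.Flat.comp (RingHom.Flat.of_bijective (ConcreteCategory.bijective_of_isIso _))
    (Flat.flat_appLE p (isAffineOpen_top _) hU le_top)

variable [IsLocalRing A] (V : X.Opens)

/-- The affine opens contained in `V`. -/
abbrev Aff (V : X.Opens) : Type u := {U : X.Opens // IsAffineOpen U ∧ U ≤ V}

/-- A family of sections on affine opens which is compatible modulo `I`. -/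
def Compat (I : Ideal A) (s : ∀ U : Aff V, Γ(X, U.1)) : Prop :=
  ∀ (U U' : Aff V) (h : U'.1 ≤ U.1),
    X.presheaf.map (homOfLE h).op (s U) - s U' ∈ I.map (str p U'.1)

/-- A family of sections congruent to a constant modulo `I`. -/
def IsConst (I : Ideal A) (s : ∀ U : Aff V, Γ(X, U.1)) : Prop :=
  ∃ a : A, ∀ U : Aff V, s U - str p U.1 a ∈ I.map (str p U.1)

/-- The inclusion of the closed point. -/
noncomputable abbrev clPt (A : CommRingCat.{u}) [IsLocalRing A] :
    Spec (CommRingCat.of (ResidueField A)) ⟶ Spec A :=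
  Spec.map (CommRingCat.ofHom (residue A))

instance : IsClosedImmersion (clPt A) :=
  IsClosedImmersion.spec_of_surjective _ Ideal.Quotient.mk_surjective

lemma app_str (U : X.Opens) (a : A) :
    (pullback.fst p (clPt A)).app U (str p U a) =
      (pullback p (clPt A)).presheaf.map (homOfLE (le_top : (pullback.fst p (clPt A)) ⁻¹ᵁ U ≤ ⊤)).op
        ((pullback.snd p (clPt A)).appTop ((Scheme.ΓSpecIso (CommRingCat.of (ResidueField A))).inv (residue A a))) := by
  have h2 : (Scheme.ΓSpecIso (CommRingCat.of (ResidueField A))).inv (residue A a) =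
      (clPt A).appTop ((Scheme.ΓSpecIso A).inv a) := by
    rw [← CommRingCat.comp_apply, ← Scheme.ΓSpecIso_inv_naturality]
    rfl
  have key : p.appLE ⊤ U le_top ≫ (pullback.fst p (clPt A)).app U =
      ((clPt A).appTop ≫ (pullback.snd p (clPt A)).appTop) ≫
        (pullback p (clPt A)).presheaf.map (homOfLE (le_top : (pullback.fst p (clPt A)) ⁻¹ᵁ U ≤ ⊤)).op := by
    simp only [Scheme.Hom.appTop, Scheme.Hom.app_eq_appLE, Scheme.Hom.appLE_comp_appLE, Scheme.Hom.appLE_map,
      Scheme.Hom.preimage_top]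
    congr 1
    exact pullback.condition
  rw [h2, str_apply]
  exact congr($(key) ((Scheme.ΓSpecIso A).inv a))

lemma mem_map_of_app_eq_zero {U : X.Opens} (hU : IsAffineOpen U) (σ : Γ(X, U))
    (hσ : (pullback.fst p (clPt A)).app U σ = 0) : σ ∈ (maximalIdeal A).map (str p U) := by
  set J := (maximalIdeal A).map (str p U)
  let mk : Γ(X, U) ⟶ CommRingCat.of (Γ(X, U) ⧸ J) := CommRingCat.ofHom (Ideal.Quotient.mk J)
  let g : CommRingCat.of (ResidueField A) ⟶ CommRingCat.of (Γ(X, U) ⧸ J) :=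
    CommRingCat.ofHom (Ideal.Quotient.lift (maximalIdeal A) ((Ideal.Quotient.mk J).comp (str p U))
      fun a ha => Ideal.Quotient.eq_zero_iff_mem.2 (Ideal.mem_map_of_mem _ ha))
  have hp : hU.fromSpec ≫ p = Spec.map (CommRingCat.ofHom (str p U)) := by
    rw [← IsAffineOpen.SpecMap_appLE_fromSpec p (isAffineOpen_top (Spec A)) hU le_top,
      IsAffineOpen.fromSpec_top, Scheme.isoSpec_Spec_inv, ← Spec.map_comp]
    rfl
  let j : Spec (CommRingCat.of (Γ(X, U) ⧸ J)) ⟶ X := Spec.map mk ≫ hU.fromSpec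
  have hj : j ≫ p = Spec.map g ≫ clPt A := by
    simp only [j, Category.assoc, hp, clPt, ← Spec.map_comp]
    rfl
  have hl := pullback.lift_fst j (Spec.map g) hj
  set l := pullback.lift j (Spec.map g) hj
  have e : (⊤ : (Spec (CommRingCat.of (Γ(X, U) ⧸ J))).Opens) ≤ j ⁻¹ᵁ U := fun x _ => by
    have h : hU.fromSpec (Spec.map mk x) ∈ Set.range hU.fromSpec := ⟨_, rfl⟩
    rw [hU.range_fromSpec] at h
    exact h
  have e' : (⊤ : (Spec (CommRingCat.of (Γ(X, U) ⧸ J))).Opens) ≤
      (l ≫ pullback.fst p (clPt A)) ⁻¹ᵁ U := by rw [hl]; exact e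
  have h1 : j.appLE U ⊤ e σ = 0 := by
    have : j.appLE U ⊤ e = (l ≫ pullback.fst p (clPt A)).appLE U ⊤ e' := by congr 1; exact hl.symm
    rw [this, ← Scheme.Hom.appLE_comp_appLE (l) (pullback.fst p (clPt A)) U
      (pullback.fst p (clPt A) ⁻¹ᵁ U) ⊤ le_rfl e', CommRingCat.comp_apply, ← Scheme.Hom.app_eq_appLE, hσ, map_zero]
  have hf : hU.fromSpec.appLE U ⊤ (by rw [hU.fromSpec_preimage_self]) = (Scheme.ΓSpecIso Γ(X, U)).inv := by
    rw [Scheme.Hom.appLE, hU.fromSpec_app_self, Category.assoc, ← Functor.map_comp,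
      Subsingleton.elim (_ ≫ _) (𝟙 _), CategoryTheory.Functor.map_id, Category.comp_id]
  have h2 : j.appLE U ⊤ e σ = (Scheme.ΓSpecIso _).inv (mk σ) := by
    rw [← CommRingCat.comp_apply, Scheme.ΓSpecIso_inv_naturality, ← hf]
    simp only [j, Scheme.Hom.appTop, Scheme.Hom.app_eq_appLE, Scheme.Hom.appLE_comp_appLE, Scheme.Hom.preimage_top]
  rw [h1] at h2
  refine Ideal.Quotient.eq_zero_iff_mem.1 ?_
  exact (ConcreteCategory.bijective_of_isIso (Scheme.ΓSpecIso (CommRingCat.of (Γ(X, U) ⧸ J))).inv).1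
    (h2.symm.trans (map_zero _).symm)

lemma preimage_eq_top (hV : ∀ x, p x = closedPoint A → x ∈ V) :
    pullback.fst p (clPt A) ⁻¹ᵁ V = ⊤ := by
  refine top_le_iff.1 fun z _ => hV _ ?_
  rw [← Scheme.Hom.comp_apply, pullback.condition, Scheme.Hom.comp_apply]
  exact PrimeSpectrum.comap_residue _ _

/-- Compatible families modulo the maximal ideal are constant. -/
theorem isConst_maximalIdeal (hV : ∀ x, p x = closedPoint A → x ∈ V)
    (h0 : Function.Bijective (pullback.snd p (clPt A)).appTop)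
    (s : ∀ U : Aff V, Γ(X, U.1)) (hs : Compat p V (maximalIdeal A) s) :
    IsConst p V (maximalIdeal A) s := by
  set i := pullback.fst p (clPt A)
  have hz : ∀ (U : X.Opens) (r : Γ(X, U)), r ∈ (maximalIdeal A).map (str p U) → i.app U r = 0 := by
    intro U r hr
    refine RingHom.mem_ker.1 ((Ideal.map_le_iff_le_comap.2 fun a ha => ?_) hr :
      r ∈ RingHom.ker (i.app U).hom)
    rw [Ideal.mem_comap, RingHom.mem_ker]
    refine (app_str p U a).trans ?_
    rw [show residue A a = 0 from Ideal.Quotient.eq_zero_iff_mem.2 ha]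
    simp
  have hcov : ∀ z : ↥(pullback p (clPt A)), ∀ O : X.Opens, i z ∈ O →
      ∃ U : Aff V, U.1 ≤ O ∧ i z ∈ U.1 := by
    intro z O hzO
    have hzV : i z ∈ V := show z ∈ i ⁻¹ᵁ V by rw [preimage_eq_top p V hV]; trivial
    obtain ⟨_, ⟨U, hU, rfl⟩, hzU, hUO⟩ := X.isBasis_affineOpens.exists_subset_of_mem_open
      (show i z ∈ ((O ⊓ V : X.Opens) : Set X) from ⟨hzO, hzV⟩) (O ⊓ V).2
    exact ⟨⟨U, hU, fun y hy => (hUO hy).2⟩, fun y hy => (hUO hy).1, hzU⟩
  have hcompat : TopCat.Presheaf.IsCompatible (pullback p (clPt A)).presheaf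
      (fun U : Aff V => i ⁻¹ᵁ U.1) (fun U => i.app U.1 (s U)) := by
    intro U U'
    refine (pullback p (clPt A)).sheaf.eq_of_locally_eq'
      (fun W : {W : Aff V // W.1 ≤ U.1 ⊓ U'.1} => i ⁻¹ᵁ W.1.1) _
      (fun W => homOfLE fun z hz => W.2 hz) ?_ _ _ fun W => ?_
    · intro z hz
      obtain ⟨W, hW, hzW⟩ := hcov z (U.1 ⊓ U'.1) hz
      exact Opens.mem_iSup.2 ⟨⟨W, hW⟩, hzW⟩
    · have key : ∀ (U₁ : Aff V) (h : W.1.1 ≤ U₁.1),
          (pullback p (clPt A)).presheaf.map (homOfLE (i.preimage_mono h)).op (i.app U₁.1 (s U₁)) =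
            i.app W.1.1 (s W.1) := by
        intro U₁ h
        have h1 : i.app U₁.1 ≫ (pullback p (clPt A)).presheaf.map (homOfLE (i.preimage_mono h)).op =
            X.presheaf.map (homOfLE h).op ≫ i.app W.1.1 := (i.naturality _).symm
        have h2 := hz _ _ (hs U₁ W.1 h)
        rw [map_sub, sub_eq_zero] at h2
        exact (congr($(h1) (s U₁))).trans h2
      have hl : i ⁻¹ᵁ W.1.1 ≤ i ⁻¹ᵁ U.1 := i.preimage_mono (W.2.trans inf_le_left)
      have hr : i ⁻¹ᵁ W.1.1 ≤ i ⁻¹ᵁ U'.1 := i.preimage_mono (W.2.trans inf_le_right)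
      exact (res_res _ _ _ (homOfLE hl) _).trans (((key U (W.2.trans inf_le_left)).trans
        (key U' (W.2.trans inf_le_right)).symm).trans (res_res _ _ _ (homOfLE hr) _).symm)
  obtain ⟨t, ht, -⟩ := (pullback p (clPt A)).sheaf.existsUnique_gluing' (fun U : Aff V => i ⁻¹ᵁ U.1) ⊤
    (fun U => homOfLE le_top) (fun z _ => by
      obtain ⟨U, -, hzU⟩ := hcov z ⊤ trivial
      exact Opens.mem_iSup.2 ⟨U, hzU⟩) _ hcompat
  obtain ⟨e, he⟩ := h0.2 t
  obtain ⟨k, rfl⟩ := (ConcreteCategory.bijective_of_isIso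
    (Scheme.ΓSpecIso (CommRingCat.of (ResidueField A))).inv).2 e
  obtain ⟨a, rfl⟩ := Ideal.Quotient.mk_surjective (I := maximalIdeal A) k
  refine ⟨a, fun U => mem_map_of_app_eq_zero p U.2.1 _ ?_⟩
  rw [map_sub, sub_eq_zero]
  refine ((ht U).symm.trans ?_).trans (app_str p U.1 a).symm
  rw [← he]
  rfl

/-- Compatible families modulo `m ^ n` are constant. -/
theorem isConst_pow [Flat p] [IsNoetherianRing A] (hV : ∀ x, p x = closedPoint A → x ∈ V)
    (h0 : Function.Bijective (pullback.snd p (clPt A)).appTop) (n : ℕ)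
    (s : ∀ U : Aff V, Γ(X, U.1)) (hs : Compat p V (maximalIdeal A ^ n) s) :
    IsConst p V (maximalIdeal A ^ n) s := by
  classical
  induction n generalizing s with
  | zero => exact ⟨0, fun U => by simp [Ideal.map_top]⟩
  | succ n ih =>
    have hle : maximalIdeal A ^ (n + 1) ≤ maximalIdeal A ^ n := Ideal.pow_le_pow_right n.le_succ
    obtain ⟨a, ha⟩ := ih s fun U U' h => Ideal.map_mono hle (hs U U' h)
    obtain ⟨N, e, hspan, hind⟩ := exists_indep_generators (maximalIdeal A ^ n) (IsNoetherian.noetherian _)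
    have hco : ∀ U : Aff V, ∃ x : Fin N → Γ(X, U.1), s U - str p U.1 a = ∑ k, x k * str p U.1 (e k) := by
      intro U
      exact exists_coeff _ hspan (ha U)
    choose x hx using hco
    have hxc : ∀ k, Compat p V (maximalIdeal A) (fun U => x U k) := by
      intro k U U' h
      letI := (str p U'.1).toAlgebra
      have : Module.Flat A Γ(X, U'.1) := str_flat p U'.2.1
      refine coeff_mem (A := A) (B := Γ(X, U'.1)) hspan hind
        (fun j => X.presheaf.map (homOfLE h).op (x U j) - x U' j) ?_ k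
      show ∑ j, (X.presheaf.map (homOfLE h).op (x U j) - x U' j) * str p U'.1 (e j) ∈
        (maximalIdeal A * maximalIdeal A ^ n).map (str p U'.1)
      rw [← pow_succ']
      have h1 : X.presheaf.map (homOfLE h).op (s U - str p U.1 a) =
          ∑ j, X.presheaf.map (homOfLE h).op (x U j) * str p U'.1 (e j) := by
        rw [hx U, map_sum]
        simp [str_res p h]
      rw [map_sub, str_res p h] at h1
      have h2 := hs U U' h
      rw [show X.presheaf.map (homOfLE h).op (s U) - s U' =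
        (X.presheaf.map (homOfLE h).op (s U) - str p U'.1 a) - (s U' - str p U'.1 a) by ring,
        h1, hx U', ← Finset.sum_sub_distrib] at h2
      simp only [← sub_mul] at h2
      exact h2
    choose c hc using fun k => isConst_maximalIdeal p V hV h0 _ (hxc k)
    refine ⟨a + ∑ k, c k * e k, fun U => ?_⟩
    rw [show s U - str p U.1 (a + ∑ k, c k * e k) = ∑ k, (x U k - str p U.1 (c k)) * str p U.1 (e k) by
      simp [sub_mul, Finset.sum_sub_distrib, ← hx U, map_add, map_sum, sub_sub]]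
    rw [pow_succ', Ideal.map_mul]
    refine Ideal.sum_mem _ fun k _ => Ideal.mul_mem_mul (hc k U) (Ideal.mem_map_of_mem _ ?_)
    rw [← hspan]
    exact Ideal.subset_span ⟨k, rfl⟩

/-- A section on an open containing the closed fibre is a constant modulo every power of `m`. -/
theorem exists_congr_const [Flat p] [IsNoetherianRing A] (hV : ∀ x, p x = closedPoint A → x ∈ V)
    (h0 : Function.Bijective (pullback.snd p (clPt A)).appTop) (σ : Γ(X, V)) (n : ℕ) :
    ∃ a : A, ∀ U : Aff V,
      X.presheaf.map (homOfLE U.2.2).op σ - str p U.1 a ∈ (maximalIdeal A ^ n).map (str p U.1) :=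
  isConst_pow p V hV h0 n (fun U => X.presheaf.map (homOfLE U.2.2).op σ) fun U U' h => by
    rw [res_res X _ _ (homOfLE U'.2.2)]
    simp

end Groth.Agent.Rig93
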