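import Groth.Agent.Rig93.Approx
import Groth.Agent.Rig93.Group

/-! The rigidity lemma over an arbitrary base. -/

set_option autoImplicit false

universe u

set_option backward.isDefEq.respectTransparency false

open CategoryTheory CategoryTheory.Limits AlgebraicGeometry TopologicalSpace

namespace Groth.Agent.Rig93

variable {S X Y : Scheme.{u}} (p : X ⟶ S) [IsProper p] [Flat p] [LocallyOfFinitePresentation p]
  (q : Y ⟶ S) [IsSeparated q] [LocallyOfFinitePresentation q] [QuasiCompact q] (f : X ⟶ Y)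

lemma exists_open_eq_of_fin (hf : f ≫ q = p) (s : S)
    (h0 : Function.Bijective (pullback.snd p (S.fromSpecResidueField s)).appTop) (hs : s ∈ collapse p f) :
    ∃ N : S.Opens, s ∈ N ∧ ((pullback.fst p p ≫ p) ⁻¹ᵁ N).ι ≫ pullback.fst p p ≫ f =
      ((pullback.fst p p ≫ p) ⁻¹ᵁ N).ι ≫ pullback.snd p p ≫ f := by
  obtain ⟨_, ⟨(W : S.Opens), hW, rfl⟩, hsW, -⟩ :=
    S.isBasis_affineOpens.exists_subset_of_mem_open (Set.mem_univ s) isOpen_univ
  have : IsAffine (W : Scheme.{u}) := hW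
  let pW := p ∣_ W
  let qW := q ∣_ W
  have : IsProper pW := MorphismProperty.of_isPullback (isPullback_morphismRestrict p W).flip ‹IsProper p›
  have : Flat pW := MorphismProperty.of_isPullback (isPullback_morphismRestrict p W).flip ‹Flat p›
  have : LocallyOfFinitePresentation pW :=
    MorphismProperty.of_isPullback (isPullback_morphismRestrict p W).flip ‹LocallyOfFinitePresentation p›
  have : LocallyOfFinitePresentation qW :=
    MorphismProperty.of_isPullback (isPullback_morphismRestrict q W).flip ‹LocallyOfFinitePresentation q›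
  have : QuasiCompact qW := MorphismProperty.of_isPullback (isPullback_morphismRestrict q W).flip ‹QuasiCompact q›
  have : IsSeparated qW := MorphismProperty.of_isPullback (isPullback_morphismRestrict q W).flip ‹IsSeparated q›
  have hle : p ⁻¹ᵁ W ≤ f ⁻¹ᵁ q ⁻¹ᵁ W := by rw [← Scheme.Hom.comp_preimage, hf]
  let fW := f.resLE (q ⁻¹ᵁ W) (p ⁻¹ᵁ W) hle
  have hfι : fW ≫ (q ⁻¹ᵁ W).ι = (p ⁻¹ᵁ W).ι ≫ f := Scheme.Hom.resLE_comp_ι _ _
  have hfW : fW ≫ qW = pW := by
    rw [← cancel_mono W.ι, Category.assoc, morphismRestrict_ι, morphismRestrict_ι, reassoc_of% hfι, hf]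
  have hval : ∀ x : ↥(p ⁻¹ᵁ W), p x.1 = (pW x).1 := fun x =>
    congr($((morphismRestrict_ι p W).symm) x)
  have h0W : Function.Bijective (pullback.snd pW ((W : Scheme.{u}).fromSpecResidueField ⟨s, hsW⟩)).appTop :=
    (h0_iff_of_isPullback (isPullback_morphismRestrict p W).flip ⟨s, hsW⟩).2 h0
  have hsW' : (⟨s, hsW⟩ : W) ∈ collapse pW fW := by
    intro x x' hx hx'
    refine Subtype.ext ?_
    have e1 : ((fW x).1 : Y) = f x.1 := congr($hfι x)
    have e2 : ((fW x').1 : Y) = f x'.1 := congr($hfι x')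
    rw [e1, e2]
    exact hs _ _ (by rw [hval x, hx]) (by rw [hval x', hx'])
  let j : pullback pW pW ⟶ pullback p p :=
    pullback.map pW pW p p (p ⁻¹ᵁ W).ι (p ⁻¹ᵁ W).ι W.ι (morphismRestrict_ι p W) (morphismRestrict_ι p W)
  have hj₁ : j ≫ pullback.fst p p = pullback.fst pW pW ≫ (p ⁻¹ᵁ W).ι := pullback.lift_fst _ _ _
  have hj₂ : j ≫ pullback.snd p p = pullback.snd pW pW ≫ (p ⁻¹ᵁ W).ι := pullback.lift_snd _ _ _
  let O : Set ↥(pullback p p) := {w | ∃ U : (pullback p p).Opens, w ∈ U ∧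
    U.ι ≫ pullback.fst p p ≫ f = U.ι ≫ pullback.snd p p ≫ f}
  have hO : IsOpen O := isOpen_iff_forall_mem_open.2 fun w ⟨U, hw, hU⟩ => ⟨U, fun z hz => ⟨U, hz, hU⟩, U.2, hw⟩
  have hfib : (pullback.fst p p ≫ p) ⁻¹' {s} ⊆ O := by
    intro w hw
    have hw1 : pullback.fst p p w ∈ p ⁻¹ᵁ W := by
      show (pullback.fst p p ≫ p) w ∈ W
      rw [show (pullback.fst p p ≫ p) w = s from hw]; exact hsW
    have hw2 : pullback.snd p p w ∈ p ⁻¹ᵁ W := by
      show (pullback.snd p p ≫ p) w ∈ W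
      rw [← pullback.condition, show (pullback.fst p p ≫ p) w = s from hw]; exact hsW
    obtain ⟨z, hz⟩ : w ∈ Set.range j := by
      rw [Scheme.Pullback.range_map]
      exact ⟨⟨⟨_, hw1⟩, rfl⟩, ⟨⟨_, hw2⟩, rfl⟩⟩
    have hzs : (pullback.fst pW pW ≫ pW) z = ⟨s, hsW⟩ := by
      refine Subtype.ext ?_
      show ((pullback.fst pW pW ≫ pW) ≫ W.ι) z = s
      rw [Category.assoc, morphismRestrict_ι, ← reassoc_of% hj₁, Scheme.Hom.comp_apply, hz]
      exact hw
    obtain ⟨U, hzU, hU⟩ := exists_nhd_eq_of_affine pW qW fW hfW ⟨s, hsW⟩ h0W hsW' z hzs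
    refine ⟨(U.ι ≫ j).opensRange, ⟨⟨z, hzU⟩, hz⟩, ?_⟩
    rw [← cancel_epi (U.ι ≫ j).isoOpensRange.hom, Scheme.Hom.isoOpensRange_hom_ι_assoc,
      Scheme.Hom.isoOpensRange_hom_ι_assoc]
    have h1 := congr($hU ≫ (q ⁻¹ᵁ W).ι)
    simp only [Category.assoc, hfι] at h1
    simp only [Category.assoc, reassoc_of% hj₁, reassoc_of% hj₂]
    exact h1
  let N : S.Opens := ⟨((pullback.fst p p ≫ p) '' Oᶜ)ᶜ,
    ((pullback.fst p p ≫ p).isClosedMap _ hO.isClosed_compl).isOpen_compl⟩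
  refine ⟨N, ?_, opens_ι_comp_eq_of_locally _ _ _ fun w hw => ?_⟩
  · rintro ⟨w, hw, hws⟩
    exact hw (hfib hws)
  · by_contra h
    exact hw ⟨w, h, rfl⟩

/-- Rigidity over an arbitrary base: the collapsed locus is open and closed, and over it the
morphism factors through the base. -/
theorem collapse_general (hf : f ≫ q = p)
    (h0 : ∀ s : S, Function.Bijective (pullback.snd p (S.fromSpecResidueField s)).appTop) :
    IsOpen (collapse p f) ∧ IsClosed (collapse p f) ∧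
      ∀ N : S.Opens, (N : Set S) ⊆ collapse p f →
        ∃ k : (N : Scheme.{u}) ⟶ Y, k ≫ q = N.ι ∧ (p ⁻¹ᵁ N).ι ≫ f = (p ∣_ N) ≫ k := by
  set a := pullback.fst p p ≫ f
  set b := pullback.snd p p ≫ f
  set π := pullback.fst p p ≫ p
  have hloc := fun s hs => exists_open_eq_of_fin p q f hf s (h0 s) hs
  have hptN : ∀ s : S, (∀ w, π w = s → a w = b w) → s ∈ collapse p f := by
    intro s hs x x' hx hx'
    obtain ⟨w, rfl, rfl⟩ := Scheme.Pullback.exists_preimage_pullback x x' (hx.trans hx'.symm)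
    exact hs w hx
  have hopen : IsOpen (collapse p f) := by
    refine isOpen_iff_forall_mem_open.2 fun s hs => ?_
    obtain ⟨N, hsN, hN⟩ := hloc s hs
    refine ⟨N, fun s' hs' => hptN s' fun w hw => ?_, N.2, hsN⟩
    exact congr($hN ⟨w, show π w ∈ N by rw [hw]; exact hs'⟩)
  have hclosed : IsClosed (collapse p f) := by
    let A : Over S := Over.mk π
    let a' : A ⟶ Over.mk q := Over.homMk a (by simp [a, π, A, hf])
    let b' : A ⟶ Over.mk q := Over.homMk b (by simp [b, π, A, hf, pullback.condition])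
    let e : equalizer a' b' ⟶ A := equalizer.ι a' b'
    have : IsSeparated (Over.mk q).hom := ‹_›
    have : IsClosedImmersion e.left := isClosedImmersion_equalizer_ι_left a' b'
    have hC : collapse p f = (π '' (Set.range e.left)ᶜ)ᶜ := by
      ext s
      constructor
      · rintro hs ⟨w, hw, rfl⟩
        obtain ⟨N, hsN, hN⟩ := hloc _ hs
        let j : Over.mk ((π ⁻¹ᵁ N).ι ≫ π) ⟶ A := Over.homMk (π ⁻¹ᵁ N).ι rfl
        have hz := congrArg CommaMorphism.left
          (equalizer.lift_ι (f := a') (g := b') j (by ext : 1; exact hN))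
        exact hw ⟨_, congr($hz ⟨w, hsN⟩)⟩
      · intro hs
        refine hptN s fun w hw => ?_
        obtain ⟨z, rfl⟩ : w ∈ Set.range e.left := by
          by_contra h
          exact hs ⟨w, h, hw⟩
        show (e.left ≫ a) z = (e.left ≫ b) z
        exact congrArg (fun m : equalizer a' b' ⟶ Over.mk q => m.left z) (equalizer.condition a' b')
    rw [hC]
    exact (π.isOpenMap _ e.left.isClosedEmbedding.isClosed_range.isOpen_compl).isClosed_compl
  refine ⟨hopen, hclosed, fun N hN => ?_⟩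
  have hsurj : Surjective p := ⟨fun s => surjective_of_h0 p s (h0 s)⟩
  have : Surjective (p ∣_ N) := IsZariskiLocalAtTarget.restrict (P := @Surjective) hsurj N
  have : Flat (p ∣_ N) := MorphismProperty.of_isPullback (isPullback_morphismRestrict p N).flip ‹Flat p›
  have : LocallyOfFinitePresentation (p ∣_ N) :=
    MorphismProperty.of_isPullback (isPullback_morphismRestrict p N).flip ‹LocallyOfFinitePresentation p›
  have heq : (π ⁻¹ᵁ N).ι ≫ a = (π ⁻¹ᵁ N).ι ≫ b := opens_ι_comp_eq_of_locally _ _ _ fun w hw => by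
    obtain ⟨M, hM, h⟩ := hloc _ (hN hw)
    exact ⟨_, hM, h⟩
  have hd : ∀ {Z : Scheme.{u}} (g₁ g₂ : Z ⟶ p ⁻¹ᵁ N), g₁ ≫ (p ∣_ N) = g₂ ≫ (p ∣_ N) →
      g₁ ≫ (p ⁻¹ᵁ N).ι ≫ f = g₂ ≫ (p ⁻¹ᵁ N).ι ≫ f := by
    intro Z g₁ g₂ h
    have hw : (g₁ ≫ (p ⁻¹ᵁ N).ι) ≫ p = (g₂ ≫ (p ⁻¹ᵁ N).ι) ≫ p := by
      simp only [Category.assoc, ← morphismRestrict_ι, reassoc_of% h]
    let l := pullback.lift _ _ hw
    let l' : Z ⟶ π ⁻¹ᵁ N := IsOpenImmersion.lift (π ⁻¹ᵁ N).ι l (by
      rintro _ ⟨z, rfl⟩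
      rw [Scheme.Opens.range_ι]
      show (l ≫ π) z ∈ N
      simp only [l, π, pullback.lift_fst_assoc]
      exact (g₁ z).2)
    have hl : l' ≫ (π ⁻¹ᵁ N).ι = l := IsOpenImmersion.lift_fac _ _ _
    have h2 := congr(l' ≫ $heq)
    simp only [reassoc_of% hl, a, b, l, pullback.lift_fst_assoc, pullback.lift_snd_assoc, Category.assoc] at h2
    exact h2
  refine ⟨EffectiveEpi.desc (p ∣_ N) _ hd, ?_, (EffectiveEpi.fac (p ∣_ N) _ hd).symm⟩
  rw [← cancel_epi (p ∣_ N), EffectiveEpi.fac_assoc, Category.assoc, hf, morphismRestrict_ι]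

end Groth.Agent.Rig93
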