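import Groth.Agent.Rig93.Congr

/-!
The infinitesimal part of the rigidity lemma: maps which are constant on a fibre with only constant
functions agree on the local schemes of points over that fibre.
-/

set_option autoImplicit false

universe u

set_option backward.isDefEq.respectTransparency false

open CategoryTheory CategoryTheory.Limits AlgebraicGeometry TopologicalSpace Opposite IsLocalRing

namespace Groth.Agent.Rig93

lemma preimage_eq_top_of_closedPoint {X : Scheme.{u}} {R : CommRingCat.{u}} [IsLocalRing R]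
    (ℓ : Spec R ⟶ X) (U : X.Opens) (h : ℓ (closedPoint R) ∈ U) : ℓ ⁻¹ᵁ U = ⊤ :=
  IsLocalRing.closed_point_mem_iff.1 h

/-- Pulling a congruence back along a map from a local scheme. -/
lemma sub_mem_pow_of_local {A R : CommRingCat.{u}} [IsLocalRing A] [IsLocalRing R] {X : Scheme.{u}}
    (p : X ⟶ Spec A) (θ : A ⟶ R) [IsLocalHom θ.hom] (ℓ : Spec R ⟶ X) (hℓ : ℓ ≫ p = Spec.map θ)
    (V : X.Opens) (hV : ∀ x, p x = closedPoint A → x ∈ V) (σ : Γ(X, V)) (n : ℕ) (a : A)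
    (ha : ∀ U : Aff V,
      X.presheaf.map (homOfLE U.2.2).op σ - str p U.1 a ∈ (maximalIdeal A ^ n).map (str p U.1))
    (e : ⊤ ≤ ℓ ⁻¹ᵁ V) :
    (Scheme.ΓSpecIso R).hom (ℓ.appLE V ⊤ e σ) - θ a ∈ maximalIdeal R ^ n := by
  have hc : p (ℓ (closedPoint R)) = closedPoint A := by
    rw [← Scheme.Hom.comp_apply, hℓ]
    exact IsLocalRing.comap_closedPoint θ.hom
  obtain ⟨_, ⟨U, hU, rfl⟩, hzU, hUV⟩ := X.isBasis_affineOpens.exists_subset_of_mem_open
    (show ℓ (closedPoint R) ∈ (V : Set X) from hV _ hc) V.2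
  have eU : (⊤ : (Spec R).Opens) ≤ ℓ ⁻¹ᵁ U := (preimage_eq_top_of_closedPoint ℓ U hzU).ge
  have h1 : ∀ b : A, (Scheme.ΓSpecIso R).hom (ℓ.appLE U ⊤ eU (str p U b)) = θ b := by
    intro b
    have key : (Scheme.ΓSpecIso A).inv ≫ p.appLE ⊤ U le_top ≫ ℓ.appLE U ⊤ eU ≫ (Scheme.ΓSpecIso R).hom = θ := by
      rw [Scheme.Hom.appLE_comp_appLE_assoc]
      have : (ℓ ≫ p).appLE ⊤ ⊤ (by simp) = (Spec.map θ).appTop := by
        simp only [hℓ, Scheme.Hom.appTop, Scheme.Hom.app_eq_appLE, Scheme.Hom.preimage_top]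
      rw [this, ← Scheme.ΓSpecIso_inv_naturality_assoc, Iso.inv_hom_id, Category.comp_id]
    exact congr($(key) b)
  have h2 : ℓ.appLE V ⊤ e σ = ℓ.appLE U ⊤ eU (X.presheaf.map (homOfLE hUV).op σ) := by
    rw [← ConcreteCategory.comp_apply, Scheme.Hom.map_appLE]
  let Φ : Γ(X, U) →+* R := (ℓ.appLE U ⊤ eU ≫ (Scheme.ΓSpecIso R).hom).hom
  have h3 := Ideal.mem_map_of_mem Φ (ha ⟨U, hU, hUV⟩)
  rw [Ideal.map_map, map_sub, show Φ.comp (str p U) = θ.hom from RingHom.ext h1, Ideal.map_pow] at h3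
  rw [h2, ← h1 a]
  refine Ideal.pow_right_mono ?_ n h3
  exact Ideal.map_le_iff_le_comap.2 fun x hx => map_nonunit θ.hom x hx

lemma clPt_fromSpecStalk (S : Scheme.{u}) (s : S) :
    clPt (S.presheaf.stalk s) ≫ S.fromSpecStalk s = S.fromSpecResidueField s := rfl

lemma bijective_snd_clPt {S X : Scheme.{u}} (p : X ⟶ S) (s : S)
    (h0 : Function.Bijective (pullback.snd p (S.fromSpecResidueField s)).appTop) :
    Function.Bijective (pullback.snd (pullback.snd p (S.fromSpecStalk s)) (clPt (S.presheaf.stalk s))).appTop := by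
  let e1 := pullbackLeftPullbackSndIso p (S.fromSpecStalk s) (clPt (S.presheaf.stalk s))
  let e2 := pullback.congrHom (rfl : p = p) (clPt_fromSpecStalk S s)
  have e : pullback.snd (pullback.snd p (S.fromSpecStalk s)) (clPt (S.presheaf.stalk s)) =
      (e1.hom ≫ e2.hom) ≫ pullback.snd p (S.fromSpecResidueField s) := by
    simp only [e1, e2, Category.assoc, pullback.congrHom_hom, pullback.map, pullback.lift_snd,
      Category.comp_id]
    exact (pullbackLeftPullbackSndIso_hom_snd _ _ _).symm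
  rw [e, Scheme.Hom.comp_appTop]
  exact (ConcreteCategory.bijective_of_isIso (e1.hom ≫ e2.hom).appTop).comp h0

/-- Abstract form: two local points over `Spec A` have the same image under a morphism sending
the closed fibre into an affine open. -/
lemma comp_eq_of_affine {A R : CommRingCat.{u}} [IsLocalRing A] [IsLocalRing R] [IsNoetherianRing A]
    [IsNoetherianRing R] {P Y : Scheme.{u}} (pA : P ⟶ Spec A) [Flat pA] (θ : A ⟶ R) [IsLocalHom θ.hom]
    (h0 : Function.Bijective (pullback.snd pA (clPt A)).appTop) (F : P ⟶ Y) (W : Y.Opens) (hW : IsAffineOpen W)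
    (hV : ∀ x, pA x = closedPoint A → x ∈ F ⁻¹ᵁ W) (ℓu ℓv : Spec R ⟶ P) (hu : ℓu ≫ pA = Spec.map θ)
    (hv : ℓv ≫ pA = Spec.map θ) : ℓu ≫ F = ℓv ≫ F := by
  have hin : ∀ ℓ : Spec R ⟶ P, ℓ ≫ pA = Spec.map θ → (⊤ : (Spec R).Opens) ≤ (ℓ ≫ F) ⁻¹ᵁ W := fun ℓ hℓ =>
    (preimage_eq_top_of_closedPoint (ℓ ≫ F) W (hV (ℓ (closedPoint R)) (by
      show (ℓ ≫ pA) (closedPoint R) = _
      rw [hℓ]; exact IsLocalRing.comap_closedPoint θ.hom))).ge
  have hus : ∀ (ℓ : Spec R ⟶ P) (hℓ : ℓ ≫ pA = Spec.map θ), (⊤ : (Spec R).Opens) ≤ ℓ ⁻¹ᵁ (F ⁻¹ᵁ W) :=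
    fun ℓ hℓ => hin ℓ hℓ
  have key : (ℓu ≫ F).appLE W ⊤ (hin ℓu hu) = (ℓv ≫ F).appLE W ⊤ (hin ℓv hv) := by
    ext c
    apply (ConcreteCategory.bijective_of_isIso (Scheme.ΓSpecIso R).hom).1
    rw [← sub_eq_zero, ← Submodule.mem_bot (R := R),
      ← Ideal.iInf_pow_eq_bot_of_isLocalRing _ (IsLocalRing.maximalIdeal.isMaximal _).ne_top,
      Submodule.mem_iInf]
    intro n
    obtain ⟨a, ha⟩ := exists_congr_const pA (F ⁻¹ᵁ W) hV h0 (F.app W c) n
    have d1 := sub_mem_pow_of_local pA θ ℓu hu (F ⁻¹ᵁ W) hV (F.app W c) n a ha (hus ℓu hu)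
    have d2 := sub_mem_pow_of_local pA θ ℓv hv (F ⁻¹ᵁ W) hV (F.app W c) n a ha (hus ℓv hv)
    have h3 := sub_mem d1 d2
    rw [sub_sub_sub_cancel_right] at h3
    rw [Scheme.Hom.comp_appLE, Scheme.Hom.comp_appLE, CommRingCat.comp_apply, CommRingCat.comp_apply]
    exact h3
  have : IsAffine (W : Scheme.{u}) := hW
  have hh : Scheme.Hom.resLE (ℓu ≫ F) W ⊤ (hin ℓu hu) = Scheme.Hom.resLE (ℓv ≫ F) W ⊤ (hin ℓv hv) := by
    rw [← cancel_mono (W : Scheme.{u}).isoSpec.hom]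
    simp only [Scheme.isoSpec, asIso_hom, Scheme.toSpecΓ_naturality,
      Scheme.Hom.app_eq_appLE, Scheme.Hom.resLE_appLE, Scheme.Hom.appTop]
    congr 2
    have : ∀ (U₀ : (Spec R).Opens) (V₀ : Y.Opens) (eU : ⊤ = U₀) (eV : W = V₀),
        (ℓu ≫ F).appLE V₀ U₀ (eU ▸ eV ▸ hin ℓu hu) = (ℓv ≫ F).appLE V₀ U₀ (eU ▸ eV ▸ hin ℓv hv) := by
      rintro _ _ rfl rfl; exact key
    apply this <;> simp
  have h4 := congr($(hh) ≫ W.ι)
  simp only [Scheme.Hom.resLE_comp_ι] at h4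
  have : IsIso (⊤ : (Spec R).Opens).ι := inferInstanceAs (IsIso (Scheme.topIso _).hom)
  exact (cancel_epi (⊤ : (Spec R).Opens).ι).1 h4

lemma mem_preimage_fst {S X Y : Scheme.{u}} (p : X ⟶ S) (f : X ⟶ Y) (s : S) (y : Y)
    (hy : ∀ x : X, p x = s → f x = y) (W : Y.Opens) (hyW : y ∈ W) (z : ↥(pullback p (S.fromSpecStalk s)))
    (hz : pullback.snd p (S.fromSpecStalk s) z = closedPoint (S.presheaf.stalk s)) :
    z ∈ (pullback.fst p (S.fromSpecStalk s) ≫ f) ⁻¹ᵁ W := by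
  show f (pullback.fst p (S.fromSpecStalk s) z) ∈ W
  rw [hy _ ?_]
  · exact hyW
  · rw [← Scheme.Hom.comp_apply, pullback.condition, Scheme.Hom.comp_apply, hz, Scheme.fromSpecStalk_closedPoint]

/-- Two maps into `X` over `S`, followed by a morphism constant on the fibre over `s`, agree on the
local scheme of each point over `s`. -/
theorem fromSpecStalk_comp_eq {S X Y T : Scheme.{u}} [IsLocallyNoetherian S] [IsLocallyNoetherian T]
    (p : X ⟶ S) [Flat p] (f : X ⟶ Y) (s : S)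
    (h0 : Function.Bijective (pullback.snd p (S.fromSpecResidueField s)).appTop)
    (y : Y) (hy : ∀ x : X, p x = s → f x = y) (u v : T ⟶ X) (huv : u ≫ p = v ≫ p) (w : T)
    (hw : (u ≫ p) w = s) :
    T.fromSpecStalk w ≫ u ≫ f = T.fromSpecStalk w ≫ v ≫ f := by
  subst hw
  obtain ⟨_, ⟨W, hW, rfl⟩, hyW, -⟩ :=
    Y.isBasis_affineOpens.exists_subset_of_mem_open (Set.mem_univ y) isOpen_univ
  have hcond : (T.fromSpecStalk w ≫ u) ≫ p =
      Spec.map ((u ≫ p).stalkMap w) ≫ S.fromSpecStalk ((u ≫ p) w) := by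
    rw [Category.assoc, Scheme.SpecMap_stalkMap_fromSpecStalk]
  have hcond' : (T.fromSpecStalk w ≫ v) ≫ p =
      Spec.map ((u ≫ p).stalkMap w) ≫ S.fromSpecStalk ((u ≫ p) w) := by
    rw [Category.assoc, ← huv, ← hcond, Category.assoc]
  have h := comp_eq_of_affine (pullback.snd p (S.fromSpecStalk ((u ≫ p) w))) ((u ≫ p).stalkMap w)
    (bijective_snd_clPt p _ h0) (pullback.fst p (S.fromSpecStalk ((u ≫ p) w)) ≫ f) W hW
    (mem_preimage_fst p f _ y hy W hyW) (pullback.lift _ _ hcond) (pullback.lift _ _ hcond')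
    (pullback.lift_snd _ _ _) (pullback.lift_snd _ _ _)
  simpa only [pullback.lift_fst_assoc, Category.assoc] using h

end Groth.Agent.Rig93
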